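import Cfsg.Agent.Mrg.Omega.IId.ThmJFull_m3
import Cfsg.Agent.Mrg.Omega.FrameI
import Mathlib
import Cfsg.Agent.Mrg.Omega.VP
import Cfsg.Agent.Mrg.Omega.FFBr.Act
import Cfsg.Agent.Mrg.Omega.Transv.Basic
import Cfsg.Agent.Mrg.Omega.NatPair.Quad
import Cfsg.Agent.ZN.ChoiceNse
import Cfsg.Agent.Mrg.Omega.OM.PG.NoRad_m3
import Cfsg.Agent.Mrg.Omega.S5.Syl_m3
import Cfsg.Agent.FastGrp
import Cfsg.Agent.Prune
set_option linter.all false

section
prune_inst 0x7ffcfefbaff8bddfffff7e7fffffdffdfdf87fffefdffdcbffecfbffcfdf4b06cfe5fba78fe8d0fe5ff6e29c10f87b53fd7ec67fea6bdc7ffffd5ff45ffbff8ffdf7bd0971d79c3e1fbe2fffe3f07f8e7f3fffffffffffffffffffffffffffbeffffffffffff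

-- part: Mrg/Omega/NOne/Flat/Conj
section
prune_inst 0x10000100440000000018000000002000680001020023000110400302024e93012001870170c01a0011122e60000a8000008800590010000020008a0040010020842a60c282081004050001c0f807180c00000000000000000000000000041000000000000
set_option linter.all false
open scoped Cfsg.Agent.FastGrp

section


/-!
# THEOREM FLAT: conjugation, offenders in module form, existence

* `Hyp.of_noOff`: `Hyp V F` from `∀ A ≤ N(V), ¬ OffM V A`;
* `Hyp.elemM_W`: `ElemM V (WW V F)`;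
* `EE_conj`, `WW_conj`, `NN_conj`, `Bad.conj`, `Hyp.conj` (`m ∈ N(V)`);
* `exists_max`: a bad `F₀` is contained in a maximal bad `F`.
-/

set_option autoImplicit false

namespace Cfsg.Agent.Omega.NOne.Flat

open Subgroup Cfsg Cfsg.Agent.Omega.NoFF.Basic Cfsg.Agent.Omega.NOne.Frame
open Cfsg.Agent.Omega.NOne.NearFF (Near c c_def)
open Cfsg.Agent.ZN (o2)
open Cfsg.Agent.MinSimple.VModule
open Cfsg.Agent.Omega.FFThm (ElemM OffM)
open scoped Pointwise

universe u

variable {G : Type u} [Group G]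

/-- no offender in module form: the strict inequality -/
theorem noff_of_offM [Finite G] {V : Subgroup G}
    (hoff : ∀ A : Subgroup G, A ≤ normalizer (V : Set G) → ¬ OffM V A) (A : Subgroup G)
    (h1 : A ≤ normalizer (V : Set G)) (h2 : A ≤ centralizer (A : Set G)) (h3 : ∀ a ∈ A, a ^ 2 = 1)
    (h4 : ¬ A ≤ centralizer (V : Set G)) :
    Nat.card A * Nat.card ↥(V ⊓ centralizer (A : Set G)) <
      Nat.card V * Nat.card ↥(A ⊓ centralizer (V : Set G)) := by
  by_contra hle
  refine hoff A h1 ⟨⟨fun a ha => ?_, fun a ha b hb => ?_⟩, h4, Nat.not_lt.1 hle⟩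
  · rw [h3 a ha]; exact one_mem _
  · rw [comm_of_le_centralizer h2 ha hb, mul_inv_cancel_right, mul_inv_cancel]
    exact one_mem _

theorem Hyp.of_noOff [Finite G] {V F : Subgroup G} (comm : V ≤ centralizer (V : Set G))
    (sq : ∀ w ∈ V, w ^ 2 = 1)
    (syl : ∀ D : Subgroup G, D ≠ ⊥ → D ≤ V → o2 (centralizer (D : Set G)) ≤ normalizer (V : Set G))
    (hoff : ∀ A : Subgroup G, A ≤ normalizer (V : Set G) → ¬ OffM V A)
    (char2 : centralizer (F : Set G) ⊓ centralizer (o2 (centralizer (F : Set G)) : Set G) ≤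
      o2 (centralizer (F : Set G)))
    (bad : Bad V F) (max : ∀ D : Subgroup G, Bad V D → F ≤ D → D = F) : Hyp V F :=
  ⟨comm, sq, syl, noff_of_offM hoff, char2, bad, max⟩

theorem Hyp.elemM_W [Finite G] {V F : Subgroup G} (h : Hyp V F) : ElemM V (WW V F) :=
  ⟨fun s hs => by
    rw [pow_two]
    exact h.comm (h.F_le_V (h.sq_W hs)), fun s hs t ht => h.comm (h.F_le_V (h.comm_WW hs ht))⟩

/-! ### conjugation by `N(V)` -/

theorem conj_eq_of_norm {m : G} {V : Subgroup G} (hm : m ∈ normalizer (V : Set G)) :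
    MulAut.conj m • V = V := by
  ext z
  rw [mem_conj]
  constructor
  · intro hz
    have := norm_mem hm hz
    have e : m * (m⁻¹ * z * m) * m⁻¹ = z := by group
    rwa [e] at this
  · exact fun hz => norm_mem' hm hz

theorem EE_conj {V F : Subgroup G} {m : G} (hm : m ∈ normalizer (V : Set G)) :
    MulAut.conj m • EE V F = EE V (MulAut.conj m • F) := by
  rw [EE, Subgroup.smul_inf, conj_eq_of_norm hm, o2_conj, conj_centralizer]

theorem WW_conj {V F : Subgroup G} {m : G} (hm : m ∈ normalizer (V : Set G)) :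
    MulAut.conj m • WW V F = WW V (MulAut.conj m • F) := by
  have key : ∀ (n : G) (D : Subgroup G), n ∈ normalizer (V : Set G) →
      MulAut.conj n • WW V D ≤ WW V (MulAut.conj n • D) := by
    intro n D hn
    have h1 : WW V D ≤ MulAut.conj n⁻¹ • WW V (MulAut.conj n • D) := by
      refine V_le fun x hx => ?_
      have h2 : n * x * n⁻¹ ∈ centralizer ((MulAut.conj n • D : Subgroup G) : Set G) := by
        rw [← conj_centralizer]
        exact Frame.conj_mem hx
      have h3 : MulAut.conj (n * x * n⁻¹) • EE V (MulAut.conj n • D) ≤ WW V (MulAut.conj n • D) :=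
        Z_le_V h2
      have h4 := conj_le_iff (g := n⁻¹) |>.2 h3
      rw [← EE_conj hn, conj_conj, conj_conj] at h4
      have e : n⁻¹ * (n * x * n⁻¹) * n = x := by group
      rwa [e] at h4
    have h2 := conj_le_iff (g := n) |>.2 h1
    rwa [conj_conj, mul_inv_cancel, map_one, one_smul] at h2
  refine le_antisymm (key m F hm) ?_
  have h1 := key m⁻¹ (MulAut.conj m • F) (inv_mem hm)
  have h2 := conj_le_iff (g := m) |>.2 h1
  rwa [conj_conj, conj_conj, mul_inv_cancel, inv_mul_cancel, map_one, one_smul, one_smul] at h2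

theorem NN_conj {V F : Subgroup G} {m : G} (hm : m ∈ normalizer (V : Set G)) :
    MulAut.conj m • NN V F = NN V (MulAut.conj m • F) := by
  rw [NN, Subgroup.smul_inf, WW_conj hm, conj_centralizer, EE_conj hm]

theorem Bad.conj {V F : Subgroup G} (h : Bad V F) {m : G} (hm : m ∈ normalizer (V : Set G)) :
    Bad V (MulAut.conj m • F) where
  ne := by
    intro h0
    apply h.ne
    have := congrArg (fun A : Subgroup G => MulAut.conj m⁻¹ • A) h0
    simp only [conj_conj, inv_mul_cancel, map_one, one_smul, Subgroup.smul_bot] at this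
    exact this
  le := by
    have := conj_le_iff (g := m) |>.2 h.le
    rwa [conj_eq_of_norm hm] at this
  not_le := by
    intro h1
    apply h.not_le
    rw [← conj_centralizer, ← o2_conj] at h1
    have h2 := conj_le_iff (g := m⁻¹) |>.2 h1
    rwa [conj_conj, inv_mul_cancel, map_one, one_smul, conj_eq_of_norm (inv_mem hm)] at h2

theorem Hyp.conj {V F : Subgroup G} (h : Hyp V F) {m : G} (hm : m ∈ normalizer (V : Set G)) :
    Hyp V (MulAut.conj m • F) where
  comm := h.comm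
  sq := h.sq
  syl := h.syl
  noff := h.noff
  char2 := by
    rw [← conj_centralizer, ← o2_conj, ← conj_centralizer, ← Subgroup.smul_inf]
    exact conj_le_iff.2 h.char2
  bad := h.bad.conj hm
  max := by
    intro D hD hFD
    have h1 := h.max _ (hD.conj (inv_mem hm)) (by
      have := conj_le_iff (g := m⁻¹) |>.2 hFD
      rwa [conj_conj, inv_mul_cancel, map_one, one_smul] at this)
    rw [← h1, conj_conj, mul_inv_cancel, map_one, one_smul]

/-! ### existence -/

/-- A bad `F₀` is contained in a maximal bad `F`. -/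
theorem exists_max [Finite G] {V F₀ : Subgroup G} (h₀ : Bad V F₀) :
    ∃ F : Subgroup G, F₀ ≤ F ∧ Bad V F ∧ ∀ D : Subgroup G, Bad V D → F ≤ D → D = F := by
  obtain ⟨F, ⟨hF1, hF2⟩, hmax⟩ := Set.exists_max_image {F : Subgroup G | F₀ ≤ F ∧ Bad V F}
    (fun F => Nat.card F) (Set.toFinite _) ⟨F₀, le_rfl, h₀⟩
  refine ⟨F, hF1, hF2, fun D hD hFD => ?_⟩
  exact (Subgroup.eq_of_le_of_card_ge hFD (hmax D ⟨hF1.trans hFD, hD⟩)).symm

/-- A bad `F₀` gives `Hyp V F` for some `F ≥ F₀`. -/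
theorem exists_hyp [Finite G] {V F₀ : Subgroup G} (comm : V ≤ centralizer (V : Set G))
    (sq : ∀ w ∈ V, w ^ 2 = 1)
    (syl : ∀ D : Subgroup G, D ≠ ⊥ → D ≤ V → o2 (centralizer (D : Set G)) ≤ normalizer (V : Set G))
    (hoff : ∀ A : Subgroup G, A ≤ normalizer (V : Set G) → ¬ OffM V A)
    (char2 : ∀ D : Subgroup G, D ≠ ⊥ → D ≤ V → centralizer (D : Set G) ⊓
      centralizer (o2 (centralizer (D : Set G)) : Set G) ≤ o2 (centralizer (D : Set G)))
    (h₀ : Bad V F₀) : ∃ F : Subgroup G, F₀ ≤ F ∧ Hyp V F := by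
  obtain ⟨F, h1, h2, h3⟩ := exists_max h₀
  exact ⟨F, h1, Hyp.of_noOff comm sq syl hoff (char2 F h2.ne h2.le) h2 h3⟩

end Cfsg.Agent.Omega.NOne.Flat

end

section


/-!
# A section `N / D` with the action of `H`
-/

set_option autoImplicit false

namespace Cfsg.Agent.Omega.NOne.Flat

open Subgroup
open scoped Pointwise

universe u v

variable {G : Type u} [Group G]

/-- The section `M = N / D` with the action of `H` by conjugation. -/
structure Sect (H N D : Subgroup G) (M : Type v) [Group M] where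
  π : N →* M
  surj : Function.Surjective π
  ker : ∀ n : N, π n = 1 ↔ (n : G) ∈ D
  nN : ∀ h ∈ H, ∀ n ∈ N, h * n * h⁻¹ ∈ N
  ρ : H →* MulAut M
  ρπ : ∀ (h : H) (n : N), ρ h (π n) = π ⟨h * n * (h : G)⁻¹, nN h h.2 n n.2⟩

/-- Sections exist. -/
theorem exists_sect {H N D : Subgroup G} (hDN : ∀ n ∈ N, ∀ d ∈ D, n * d * n⁻¹ ∈ D)
    (hN : ∀ h ∈ H, ∀ n ∈ N, h * n * h⁻¹ ∈ N) (hD : ∀ h ∈ H, ∀ d ∈ D, h * d * h⁻¹ ∈ D) :
    ∃ (M : Type u) (_ : Group M), Nonempty (Sect H N D M) := by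
  have hn : (D.subgroupOf N).Normal := ⟨fun d hd n => by
    rw [mem_subgroupOf] at hd ⊢
    exact hDN n n.2 d hd⟩
  let act : H → (N ⧸ D.subgroupOf N) → (N ⧸ D.subgroupOf N) := fun h =>
    Quotient.map' (fun n : N => (⟨h * n * (h : G)⁻¹, hN h h.2 n n.2⟩ : N)) (by
      intro a b hab
      rw [QuotientGroup.leftRel_apply, mem_subgroupOf] at hab ⊢
      have h1 := hD h h.2 _ hab
      push_cast at h1 ⊢
      have e : (↑h * ↑a * (h : G)⁻¹)⁻¹ * (↑h * ↑b * (h : G)⁻¹) = h * ((a : G)⁻¹ * b) * (h : G)⁻¹ := by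
        group
      rw [e]
      exact h1)
  have act_mk : ∀ (h : H) (n : N), act h (QuotientGroup.mk n) =
      QuotientGroup.mk (⟨h * n * (h : G)⁻¹, hN h h.2 n n.2⟩ : N) := fun h n => rfl
  have act_one : ∀ q, act 1 q = q := by
    intro q
    induction q using QuotientGroup.induction_on with
    | H n =>
      rw [act_mk]
      congr 1
      apply Subtype.ext
      simp
  have act_mul : ∀ h h' q, act (h * h') q = act h (act h' q) := by
    intro h h' q
    induction q using QuotientGroup.induction_on with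
    | H n =>
      rw [act_mk, act_mk, act_mk]
      congr 1
      apply Subtype.ext
      simp [mul_assoc]
  let ρ0 : H → MulAut (N ⧸ D.subgroupOf N) := fun h =>
    { toFun := act h
      invFun := act h⁻¹
      left_inv := fun q => by rw [← act_mul, inv_mul_cancel, act_one]
      right_inv := fun q => by rw [← act_mul, mul_inv_cancel, act_one]
      map_mul' := by
        intro q q'
        induction q using QuotientGroup.induction_on with
        | H n =>
          induction q' using QuotientGroup.induction_on with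
          | H n' =>
            rw [← QuotientGroup.mk_mul, act_mk, act_mk, act_mk, ← QuotientGroup.mk_mul]
            congr 1
            apply Subtype.ext
            simp [mul_assoc] }
  refine ⟨N ⧸ D.subgroupOf N, inferInstance, ⟨{
    π := QuotientGroup.mk' _
    surj := QuotientGroup.mk'_surjective _
    ker := fun n => by rw [QuotientGroup.mk'_apply, QuotientGroup.eq_one_iff, mem_subgroupOf]
    nN := hN
    ρ :=
      { toFun := ρ0
        map_one' := by ext q; exact act_one q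
        map_mul' := fun h h' => by ext q; exact act_mul h h' q }
    ρπ := fun h n => rfl }⟩⟩

namespace Sect

variable {H N D : Subgroup G} {M : Type v} [Group M] (s : Sect H N D M)

/-- The image of a subgroup of `N`. -/
def B (K : Subgroup G) : Subgroup M := (K.subgroupOf N).map s.π

/-- The group of automorphisms of `M` induced by a subgroup of `H`. -/
def A (K : Subgroup G) : Subgroup (MulAut M) := (K.subgroupOf H).map s.ρ

theorem π_eq_iff {a b : N} : s.π a = s.π b ↔ (a : G)⁻¹ * b ∈ D := by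
  have h1 : s.π a = s.π b ↔ s.π (a⁻¹ * b) = 1 := by rw [map_mul, map_inv, inv_mul_eq_one]
  rw [h1, s.ker]
  push_cast
  rfl

theorem mem_B {K : Subgroup G} (hDK : D ≤ K) {n : N} : s.π n ∈ s.B K ↔ (n : G) ∈ K := by
  constructor
  · rintro ⟨m, hm, hmn⟩
    have h1 := s.π_eq_iff.1 hmn
    have h2 : (n : G) = m * ((m : G)⁻¹ * n) := by group
    rw [h2]
    exact mul_mem hm (hDK h1)
  · intro h
    exact ⟨n, h, rfl⟩

theorem B_le_B {K K' : Subgroup G} (h : K ≤ K') : s.B K ≤ s.B K' :=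
  Subgroup.map_mono fun _ hk => h hk

theorem B_inj {K K' : Subgroup G} (hDK : D ≤ K) (hK : K ≤ N) (hDK' : D ≤ K') (hK' : K' ≤ N)
    (h : s.B K = s.B K') : K = K' := by
  apply le_antisymm
  · intro k hk
    have h1 : s.π ⟨k, hK hk⟩ ∈ s.B K' := by
      rw [← h, s.mem_B hDK]
      exact hk
    exact (s.mem_B hDK').1 h1
  · intro k hk
    have h1 : s.π ⟨k, hK' hk⟩ ∈ s.B K := by
      rw [h, s.mem_B hDK']
      exact hk
    exact (s.mem_B hDK).1 h1

theorem B_inf {K K' : Subgroup G} (hDK' : D ≤ K') : s.B K ⊓ s.B K' = s.B (K ⊓ K') := by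
  apply le_antisymm
  · rintro _ ⟨⟨k, hk, rfl⟩, hk'⟩
    have h1 := (s.mem_B hDK').1 hk'
    exact ⟨k, mem_inf.2 ⟨hk, h1⟩, rfl⟩
  · exact le_inf (s.B_le_B inf_le_left) (s.B_le_B inf_le_right)

theorem B_sup {K K' : Subgroup G} (hK : K ≤ N) (hK' : K' ≤ N) : s.B K ⊔ s.B K' = s.B (K ⊔ K') := by
  rw [B, B, B, ← Subgroup.map_sup, Subgroup.subgroupOf_sup hK hK']

theorem B_D : s.B D = ⊥ := by
  rw [eq_bot_iff]
  rintro _ ⟨n, hn, rfl⟩
  exact mem_bot.2 ((s.ker n).2 hn)

theorem B_N : s.B N = ⊤ := by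
  rw [eq_top_iff]
  intro m _
  obtain ⟨n, rfl⟩ := s.surj m
  exact ⟨n, n.2, rfl⟩

theorem card_B {K : Subgroup G} (hK : K ≤ N) : Nat.card (s.B K) = D.relIndex K := by
  have h1 : (s.π.comp (inclusion hK)).range = s.B K := by
    ext m
    constructor
    · rintro ⟨k, rfl⟩
      exact ⟨inclusion hK k, k.2, rfl⟩
    · rintro ⟨k, hk, rfl⟩
      exact ⟨⟨k, hk⟩, rfl⟩
  have h2 : (s.π.comp (inclusion hK)).ker = D.subgroupOf K := by
    ext k
    rw [MonoidHom.mem_ker, MonoidHom.comp_apply, s.ker, mem_subgroupOf]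
    rfl
  rw [← h1, ← index_ker, h2]
  rfl

theorem ρ_eq_iff {a b : H} : s.ρ a = s.ρ b ↔
    ∀ n ∈ N, (a * n * (a : G)⁻¹)⁻¹ * (b * n * (b : G)⁻¹) ∈ D := by
  constructor
  · intro h n hn
    have h1 : s.ρ a (s.π ⟨n, hn⟩) = s.ρ b (s.π ⟨n, hn⟩) := by rw [h]
    rw [s.ρπ, s.ρπ, s.π_eq_iff] at h1
    exact h1
  · intro h
    ext m
    obtain ⟨n, rfl⟩ := s.surj m
    rw [s.ρπ, s.ρπ, s.π_eq_iff]
    exact h n n.2

theorem ρ_eq_one_iff {a : H} : s.ρ a = 1 ↔ ∀ n ∈ N, a * n * (a : G)⁻¹ * n⁻¹ ∈ D := by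
  constructor
  · intro h n hn
    have h1 : s.ρ a (s.π ⟨n⁻¹, inv_mem hn⟩) = s.π ⟨n⁻¹, inv_mem hn⟩ := by rw [h]; rfl
    rw [s.ρπ, s.π_eq_iff] at h1
    have e : ((⟨a * n⁻¹ * (a : G)⁻¹, s.nN a a.2 _ (inv_mem hn)⟩ : N) : G)⁻¹ * ((⟨n⁻¹, inv_mem hn⟩ : N) : G) =
        a * n * (a : G)⁻¹ * n⁻¹ := by
      change (a * n⁻¹ * (a : G)⁻¹)⁻¹ * n⁻¹ = _
      group
    rwa [e] at h1
  · intro h
    ext m
    obtain ⟨n, rfl⟩ := s.surj m
    rw [s.ρπ]
    change _ = s.π n
    rw [s.π_eq_iff]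
    have h2 := h _ (inv_mem n.2)
    have e : ((⟨a * n * (a : G)⁻¹, s.nN a a.2 _ n.2⟩ : N) : G)⁻¹ * (n : G) =
        a * (n : G)⁻¹ * (a : G)⁻¹ * ((n : G)⁻¹)⁻¹ := by
      change ((a : G) * (n : G) * (a : G)⁻¹)⁻¹ * (n : G) = _
      group
    rw [e]
    exact h2

theorem B_map (h : H) (K : Subgroup G) :
    (s.B K).map (s.ρ h : M ≃* M).toMonoidHom = s.B (MulAut.conj (h : G) • K) := by
  apply le_antisymm
  · rintro _ ⟨_, ⟨k, hk, rfl⟩, rfl⟩
    refine ⟨⟨h * k * (h : G)⁻¹, s.nN h h.2 k k.2⟩, ?_, (s.ρπ h k).symm⟩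
    exact Subgroup.smul_mem_pointwise_smul _ _ _ hk
  · rintro _ ⟨n, hn, rfl⟩
    have hn' : (n : G) ∈ MulAut.conj (h : G) • K := hn
    obtain ⟨k, hk, hkn⟩ := (Subgroup.mem_smul_pointwise_iff_exists _ _ _).1 hn'
    have hkN : k ∈ N := by
      have e : k = (h : G)⁻¹ * n * (h : G)⁻¹⁻¹ := by
        rw [← hkn]
        change k = (h : G)⁻¹ * (h * k * (h : G)⁻¹) * (h : G)⁻¹⁻¹
        group
      rw [e]
      exact s.nN _ (inv_mem h.2) n n.2
    refine ⟨s.π ⟨k, hkN⟩, ⟨⟨k, hkN⟩, hk, rfl⟩, ?_⟩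
    change s.ρ h (s.π ⟨k, hkN⟩) = s.π n
    rw [s.ρπ]
    congr 1
    exact Subtype.ext hkn

theorem A_map (h : H) (K : Subgroup G) :
    (s.A K).map (MulAut.conj (s.ρ h)).toMonoidHom = s.A (MulAut.conj (h : G) • K) := by
  apply le_antisymm
  · rintro _ ⟨_, ⟨k, hk, rfl⟩, rfl⟩
    refine ⟨h * k * h⁻¹, ?_, ?_⟩
    · exact Subgroup.smul_mem_pointwise_smul _ _ _ hk
    · rw [map_mul, map_mul, map_inv]
      rfl
  · rintro _ ⟨n, hn, rfl⟩
    have hn' : (n : G) ∈ MulAut.conj (h : G) • K := hn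
    obtain ⟨k, hk, hkn⟩ := (Subgroup.mem_smul_pointwise_iff_exists _ _ _).1 hn'
    have e : ((h⁻¹ * n * h : H) : G) = k := by
      push_cast
      rw [← hkn]
      change (h : G)⁻¹ * (h * k * (h : G)⁻¹) * h = k
      group
    refine ⟨s.ρ (h⁻¹ * n * h), ⟨h⁻¹ * n * h, ?_, rfl⟩, ?_⟩
    · rw [SetLike.mem_coe, mem_subgroupOf, e]
      exact hk
    · change s.ρ h * s.ρ (h⁻¹ * n * h) * (s.ρ h)⁻¹ = s.ρ n
      rw [← map_inv, ← map_mul, ← map_mul]
      congr 1
      group

theorem A_sup {K K' : Subgroup G} (hK : K ≤ H) (hK' : K' ≤ H) : s.A K ⊔ s.A K' = s.A (K ⊔ K') := by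
  rw [A, A, A, ← Subgroup.map_sup, Subgroup.subgroupOf_sup hK hK']

theorem card_A {K K' : Subgroup G} (hK : K ≤ H)
    (h1 : ∀ k (hk : k ∈ K), s.ρ ⟨k, hK hk⟩ = 1 ↔ k ∈ K') : Nat.card (s.A K) = K'.relIndex K := by
  have h2 : (s.ρ.comp (inclusion hK)).range = s.A K := by
    ext m
    constructor
    · rintro ⟨k, rfl⟩
      exact ⟨inclusion hK k, k.2, rfl⟩
    · rintro ⟨k, hk, rfl⟩
      exact ⟨⟨k, hk⟩, rfl⟩
  have h3 : (s.ρ.comp (inclusion hK)).ker = K'.subgroupOf K := by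
    ext k
    rw [MonoidHom.mem_ker, MonoidHom.comp_apply, mem_subgroupOf]
    exact h1 k k.2
  rw [← h2, ← index_ker, h3]
  rfl

end Sect

end Cfsg.Agent.Omega.NOne.Flat

end

section


/-!
# THEOREM FIELD (#15909), the abstract interface between (F1), (F2) and (F3), (F4)

`M` an elementary abelian 2-group, `M = B₁ × B₂`, `Aᵢ ≤ Aut(M)` an elementary abelian 2-group with
`[M, a] ≤ Bᵢ = C_M(a)` for `1 ≠ a ∈ Aᵢ`; for `y ∈ L = ⟨A₁, A₂⟩` either `Bᵢ^y = Bⱼ`, and then `Aᵢ^y = Aⱼ`,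
or `Bᵢ^y ∩ Bⱼ = 1`.
-/

set_option autoImplicit false

namespace Cfsg.Agent.Omega.NOne.Flat

/-- The data of THEOREM FIELD: `i = false` is `E / F`, `V`; `i = true` is `E^x / F`, `V^x`. -/
structure Spr {M : Type*} [Group M] (B : Bool → Subgroup M) (A : Bool → Subgroup (MulAut M)) : Prop where
  comm : ∀ m n : M, m * n = n * m
  sq : ∀ m : M, m * m = 1
  disj : B false ⊓ B true = ⊥
  sup : B false ⊔ B true = ⊤
  card : Nat.card (B false) = Nat.card (B true)
  ne : ∀ i, B i ≠ ⊥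
  Acomm : ∀ i, ∀ a ∈ A i, ∀ b ∈ A i, a * b = b * a
  Asq : ∀ i, ∀ a ∈ A i, a * a = 1
  Acard : Nat.card (A false) = Nat.card (A true)
  Ane : ∀ i, A i ≠ ⊥
  fix : ∀ i, ∀ a ∈ A i, ∀ m ∈ B i, a m = m
  into : ∀ i, ∀ a ∈ A i, ∀ m : M, a m * m⁻¹ ∈ B i
  free : ∀ i, ∀ a ∈ A i, a ≠ 1 → ∀ m : M, a m = m → m ∈ B i
  spread : ∀ i j, ∀ y ∈ A false ⊔ A true,
    (B i).map (y : M ≃* M).toMonoidHom = B j ∨ (B i).map (y : M ≃* M).toMonoidHom ⊓ B j = ⊥
  stab : ∀ i j, ∀ y ∈ A false ⊔ A true, (B i).map (y : M ≃* M).toMonoidHom = B j →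
    (A i).map (MulAut.conj y).toMonoidHom = A j

end Cfsg.Agent.Omega.NOne.Flat

end

section


/-!
# THEOREM FIELD (#15909, helper723), (F1) and (F2)

`x ∈ X` bad, `EX = E E^x`; `Good g`: `E^g ≤ EX`, `V^g` normalises `EX`, `C_{EX / F}(w) ≤ E^g / F` for
`w ∈ V^g - E^g`.

* `Good.dich` (F1): `E^g = E^{g'}` or `E^g ∩ E^{g'} = F`;
* `Hyp.comm_conj_mem` (F2): `v^c` and `v` induce the same map on `W / F` for `c ∈ C_G(E)`;
* `Hyp.exists_spr`: the instance of `Spr` on `EX / F`.
-/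

set_option autoImplicit false

namespace Cfsg.Agent.Omega.NOne.Flat

open Subgroup Cfsg Cfsg.Agent.Omega.NoFF.Basic Cfsg.Agent.Omega.NOne.Frame
open Cfsg.Agent.Omega.NOne.NearFF (Near c c_def)
open Cfsg.Agent.ZN (o2)
open Cfsg.Agent.MinSimple.VModule
open scoped Pointwise

universe u

variable {G : Type u} [Group G]

/-- `E E^x` -/
abbrev EX (V F : Subgroup G) (x : G) : Subgroup G := EE V F ⊔ MulAut.conj x • EE V F

/-- `C_{EX / F}(w) ≤ E^g / F` for `w ∈ V^g - E^g` -/
structure Good (V F : Subgroup G) (x g : G) : Prop where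
  gX : g ∈ centralizer (F : Set G)
  le : MulAut.conj g • EE V F ≤ EX V F x
  norm : MulAut.conj g • V ≤ normalizer (EX V F x : Set G)
  reg : ∀ m ∈ EX V F x, ∀ w ∈ MulAut.conj g • V, w ∉ MulAut.conj g • EE V F → c w m ∈ F →
    m ∈ MulAut.conj g • EE V F

namespace Hyp

variable {V F : Subgroup G} (h : Hyp V F)
include h

/-- **(F2)**, the computation: `c ∈ C_G(E)`, `v ∈ V`: `[v^c, s] = [v, s]` modulo `F`. -/
theorem comm_conj_mem [Finite G] {g v s : G} (hg : g ∈ centralizer (EE V F : Set G)) (hv : v ∈ V)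
    (hs : s ∈ WW V F) : (c v s)⁻¹ * c (g * v * g⁻¹) s ∈ F := by
  have hgX : g ∈ centralizer (F : Set G) := centralizer_le h.F_le_E hg
  have hs' : g⁻¹ * s * g ∈ WW V F := by
    have := conj_mem_W (inv_mem hgX) hs
    rwa [inv_inv] at this
  have hgE : ∀ e ∈ EE V F, g * e * g⁻¹ = e := fun e he => by
    rw [← mem_centralizer_iff.1 hg e he, mul_inv_cancel_right]
  have hn : s⁻¹ * (g⁻¹ * s * g) ∈ NN V F := by
    refine mem_inf.2 ⟨mul_mem (inv_mem hs) hs', ?_⟩
    rw [mem_centralizer_iff]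
    intro e he
    have h1 : c e (g⁻¹ * s * g) = c e s := by
      have h2 : g⁻¹ * c e s * g = c e s := by
        rw [mul_assoc, F_comm (h.comm_EW he hs) hgX, inv_mul_cancel_left]
      have h3 : c e (g⁻¹ * s * g) = g⁻¹ * c (g * e * g⁻¹) s * g := by rw [c, c]; group
      rw [h3, hgE e he, h2]
    have h4 : c e (s⁻¹ * (g⁻¹ * s * g)) = 1 := by
      rw [h.c_mul_right' he (inv_mem hs) hs', h1, ← h.c_mul_right' he (inv_mem hs) hs, inv_mul_cancel,
        c_one_right]
    calc e * (s⁻¹ * (g⁻¹ * s * g)) = c e (s⁻¹ * (g⁻¹ * s * g)) * (s⁻¹ * (g⁻¹ * s * g) * e) := by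
          rw [c_def]; group
      _ = s⁻¹ * (g⁻¹ * s * g) * e := by rw [h4, one_mul]
  have h5 : c (g * v * g⁻¹) s = c v (g⁻¹ * s * g) := by
    have h6 : c (g * v * g⁻¹) s = g * c v (g⁻¹ * s * g) * g⁻¹ := by rw [c, c]; group
    rw [h6, hgE _ (h.c_memE hv hs')]
  rw [h5, h.c_iff hv hs hs']
  exact h.c_mem_F hv hn

/-- a fixed point of a 2-group on `E E^x / F` -/
theorem exists_fix' [Finite G] {x : G} (hx : x ∈ centralizer (F : Set G)) {P : Subgroup G}
    (hP : IsPGroup 2 P) (hPn : P ≤ normalizer (EX V F x : Set G)) (hPX : P ≤ centralizer (F : Set G)) :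
    ∃ n ∈ EX V F x, n ∉ F ∧ ∀ y ∈ P, c y n ∈ F := by
  have : Fact (Nat.Prime 2) := ⟨Nat.prime_two⟩
  have hMX : EX V F x ≤ centralizer (F : Set G) := (EEx_le_W hx).trans W_le_X
  have hM2 : IsPGroup 2 (EX V F x) := W_isPGroup.to_le (EEx_le_W hx)
  have hY : IsPGroup 2 (P ⊔ EX V F x : Subgroup G) := IsPGroup.to_sup_of_normal_right' hP hM2 hPn
  have hYn : P ⊔ EX V F x ≤ normalizer (EX V F x : Set G) := sup_le hPn le_normalizer
  have hYX : P ⊔ EX V F x ≤ centralizer (F : Set G) := sup_le hPX hMX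
  obtain ⟨e0, he0, he0F⟩ := SetLike.not_le_iff_exists.1 (not_le_of_gt h.F_lt_E)
  obtain ⟨n, hn, hnF, hfix⟩ := GTwoFour.Tools.exists_fixed_mod (M := F) hY le_sup_right
    (fun y hy n hn => norm_mem (hYn hy) hn)
    (fun y hy m hm => norm_mem (X_norm_F (hYX hy)) hm) ⟨e0, mem_sup_left he0, he0F⟩
  exact ⟨n, hn, hnF, fun y hy => hfix y (mem_sup_left hy)⟩

theorem good_one [Finite G] {x : G} (hx : x ∈ centralizer (F : Set G)) (hb : BadX V x) : Good V F x 1 where
  gX := one_mem _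
  le := by rw [map_one, one_smul]; exact le_sup_left
  norm := by
    rw [map_one, one_smul]
    exact le_sup_left.trans (h.sup_norm_EEx hx)
  reg := by
    rw [map_one, one_smul, one_smul]
    intro m hm w hw hwE hc
    obtain ⟨e, he, f, hf, rfl⟩ := h.mem_EEx hx hm
    exact mul_mem he (h.F_le_E (h.reg hx hb hw hwE he hf hc))

theorem good_self [Finite G] {x : G} (hx : x ∈ centralizer (F : Set G)) (hb : BadX V x) : Good V F x x where
  gX := hx
  le := le_sup_right
  norm := le_sup_right.trans (h.sup_norm_EEx hx)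
  reg := by
    intro m hm w hw hwE hc
    have hmW : m ∈ WW V F := EEx_le_W hx hm
    have h1 : m ∈ MulAut.conj x • NN V F := by
      rw [mem_conj] at hw hwE ⊢
      have hm' : x⁻¹ * m * x ∈ WW V F := by
        have := conj_mem_W (inv_mem hx) hmW
        rwa [inv_inv] at this
      rw [← h.c_mem_F_iff hw hwE hm']
      have h2 := norm_mem' (X_norm_F hx) hc
      have e : x⁻¹ * c w m * x = c (x⁻¹ * w * x) (x⁻¹ * m * x) := by rw [c, c]; group
      rwa [e] at h2
    obtain ⟨e, he, f, hf, rfl⟩ := h.mem_EEx hx hm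
    have h2 : e ∈ F := by
      rw [← h.E_inf_conjNN hx hb]
      exact mem_inf.2 ⟨he, (mul_mem_cancel_right (h.conjE_le_conjNN hx hf)).1 h1⟩
    exact mul_mem (h.F_le_conjE hx h2) hf

end Hyp

theorem Good.mul {V F : Subgroup G} {x g l : G} (hg : Good V F x g)
    (hl : l ∈ normalizer (EX V F x : Set G)) (hlX : l ∈ centralizer (F : Set G)) : Good V F x (l * g) where
  gX := mul_mem hlX hg.gX
  le := by
    have := conj_le_iff (g := l) |>.2 hg.le
    rwa [conj_conj, conj_eq_of_norm hl] at this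
  norm := by
    intro w hw
    rw [← conj_conj, mem_conj] at hw
    have h1 := hg.norm hw
    have e : w = l * (l⁻¹ * w * l) * l⁻¹ := by group
    rw [e]
    exact mul_mem (mul_mem hl h1) (inv_mem hl)
  reg := by
    intro m hm w hw hwE hc
    rw [← conj_conj, mem_conj] at hw hwE ⊢
    refine hg.reg _ (norm_mem' hl hm) _ hw hwE ?_
    have h2 := norm_mem' (Hyp.X_norm_F hlX) hc
    have e : l⁻¹ * c w m * l = c (l⁻¹ * w * l) (l⁻¹ * m * l) := by rw [c, c]; group
    rwa [e] at h2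

namespace Hyp

variable {V F : Subgroup G} (h : Hyp V F)
include h

theorem conj_inf_eq [Finite G] {g g' : G} (hg : g ∈ centralizer (F : Set G))
    (hg' : g' ∈ centralizer (F : Set G)) (hb : BadX V (g⁻¹ * g')) :
    MulAut.conj g • V ⊓ MulAut.conj g' • V = F := by
  have h1 := h.inf_eq_of_bad (mul_mem (inv_mem hg) hg') hb
  have h2 := congrArg (fun A : Subgroup G => MulAut.conj g • A) h1
  simp only [Subgroup.smul_inf (MulAut.conj g) V (MulAut.conj (g⁻¹ * g') • V), conj_conj,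
    mul_inv_cancel_left, conj_eq_of_cent hg] at h2
  exact h2

theorem conj_commute [Finite G] {g g' : G} (hg : g ∈ centralizer (F : Set G))
    (hg' : g' ∈ centralizer (F : Set G)) (hlt : ¬ MulAut.conj g • V ⊓ MulAut.conj g' • V ≤ F) :
    MulAut.conj g' • V ≤ centralizer ((MulAut.conj g • V : Subgroup G) : Set G) := by
  have h1 : F < V ⊓ MulAut.conj (g⁻¹ * g') • V := by
    refine lt_of_le_of_ne (h.F_le_inf (mul_mem (inv_mem hg) hg')) fun h2 => hlt ?_
    have h3 := congrArg (fun A : Subgroup G => MulAut.conj g • A) h2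
    simp only [Subgroup.smul_inf (MulAut.conj g) V (MulAut.conj (g⁻¹ * g') • V), conj_conj,
      mul_inv_cancel_left, conj_eq_of_cent hg] at h3
    exact h3.ge
  have h2 := conj_le_centralizer (g := g) (h.commute_of_lt (mul_mem (inv_mem hg) hg') h1)
  rwa [conj_conj, mul_inv_cancel_left] at h2

theorem exists_not_mem_conj (g : G) : ∃ w ∈ MulAut.conj g • V, w ∉ MulAut.conj g • EE V F := by
  obtain ⟨w, hw, hwE⟩ := h.exists_not_mem
  refine ⟨g * w * g⁻¹, Frame.conj_mem hw, fun h1 => hwE ?_⟩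
  rw [mem_conj] at h1
  have e : g⁻¹ * (g * w * g⁻¹) * g = w := by group
  rwa [e] at h1

theorem E_le_of_commute [Finite G] {x g g' : G} (hg : Good V F x g) (hg' : Good V F x g')
    (hc : MulAut.conj g' • V ≤ centralizer ((MulAut.conj g • V : Subgroup G) : Set G)) :
    MulAut.conj g • EE V F ≤ MulAut.conj g' • EE V F := by
  obtain ⟨w, hw, hwE⟩ := h.exists_not_mem_conj g'
  intro e he
  refine hg'.reg e (hg.le he) w hw hwE ?_
  have h1 := mem_centralizer_iff.1 (hc hw) e (conjE_le_conjV g he)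
  rw [c, ← h1, mul_inv_cancel_right, mul_inv_cancel]
  exact one_mem _

/-- **(F1)** `E^g = E^{g'}` (and `[V^g, V^{g'}] = 1`) or `E^g ∩ E^{g'} = F`. -/
theorem dich [Finite G] {x g g' : G} (hx : x ∈ centralizer (F : Set G)) (hg : Good V F x g)
    (hg' : Good V F x g') :
    (MulAut.conj g • EE V F = MulAut.conj g' • EE V F ∧
      MulAut.conj g' • V ≤ centralizer ((MulAut.conj g • V : Subgroup G) : Set G)) ∨
      (BadX V (g⁻¹ * g') ∧ MulAut.conj g • EE V F ⊓ MulAut.conj g' • EE V F = F) := by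
  by_cases h2 : IsPGroup 2 (MulAut.conj g • V ⊔ MulAut.conj g' • V : Subgroup G)
  · left
    obtain ⟨n, hn, hnF, hfix⟩ := h.exists_fix' hx h2 (sup_le hg.norm hg'.norm)
      (sup_le (h.conjV_le_X hg.gX) (h.conjV_le_X hg'.gX))
    obtain ⟨w, hw, hwE⟩ := h.exists_not_mem_conj g
    obtain ⟨w', hw', hwE'⟩ := h.exists_not_mem_conj g'
    have h3 := hg.reg n hn w hw hwE (hfix w (mem_sup_left hw))
    have h4 := hg'.reg n hn w' hw' hwE' (hfix w' (mem_sup_right hw'))
    have h5 := h.conj_commute hg.gX hg'.gX fun h6 =>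
      hnF (h6 (mem_inf.2 ⟨conjE_le_conjV g h3, conjE_le_conjV g' h4⟩))
    exact ⟨le_antisymm (h.E_le_of_commute hg hg' h5) (h.E_le_of_commute hg' hg (comm_symm h5)), h5⟩
  · right
    have hb : BadX V (g⁻¹ * g') := by
      intro h3
      apply h2
      have h4 := Choice.isPGroup_conj h3 g
      rw [Subgroup.smul_sup, conj_conj, mul_inv_cancel_left] at h4
      exact h4
    refine ⟨hb, le_antisymm ?_ (le_inf (h.F_le_conjE hg.gX) (h.F_le_conjE hg'.gX))⟩
    rw [← h.conj_inf_eq hg.gX hg'.gX hb]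
    exact inf_le_inf (conjE_le_conjV g) (conjE_le_conjV g')

/-- `E^g ≠ F` -/
theorem conjE_ne (g : G) (hg : g ∈ centralizer (F : Set G)) : MulAut.conj g • EE V F ≠ F := by
  intro h1
  apply h.E_ne_F
  have h2 := congrArg (fun A : Subgroup G => MulAut.conj g⁻¹ • A) h1
  simp only [conj_conj, inv_mul_cancel, map_one, one_smul, conj_eq_of_cent (inv_mem hg)] at h2
  exact h2

/-- the kernel of `V^g` on `EX / F` is `E^g`. -/
theorem ker_conj [Finite G] {x g k : G} (hx : x ∈ centralizer (F : Set G)) (hb : BadX V x)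
    (hg : Good V F x g) (hk : k ∈ MulAut.conj g • V) :
    (∀ n ∈ EX V F x, c k n ∈ F) ↔ k ∈ MulAut.conj g • EE V F := by
  constructor
  · intro h1
    by_contra hkE
    have h2 : EX V F x ≤ MulAut.conj g • EE V F := fun n hn => hg.reg n hn k hk hkE (h1 n hn)
    have h3 : EE V F = MulAut.conj g • EE V F :=
      Subgroup.eq_of_le_of_card_ge (le_sup_left.trans h2) (Choice.card_conj _ _).le
    have h4 : MulAut.conj x • EE V F = MulAut.conj g • EE V F :=
      Subgroup.eq_of_le_of_card_ge (le_sup_right.trans h2)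
        (by rw [Choice.card_conj, Choice.card_conj])
    have h5 : EE V F ≤ V ⊓ MulAut.conj x • V := by
      refine le_inf inf_le_left ?_
      rw [h3, ← h4]
      exact conjE_le_conjV x
    rw [h.inf_eq_of_bad hx hb] at h5
    exact absurd h5 (not_le_of_gt h.F_lt_E)
  · intro hkE n hn
    exact h.comm_WW (conjE_le_W hg.gX hkE) (EEx_le_W hx hn)

end Hyp

/-- the two points -/
def gi (x : G) : Bool → G
  | false => 1
  | true => x

/-- The group acting on `EX / F`. -/
abbrev HX (V F : Subgroup G) (x : G) : Subgroup G :=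
  normalizer (EX V F x : Set G) ⊓ centralizer (F : Set G)

namespace Hyp

variable {V F : Subgroup G} (h : Hyp V F)
include h

theorem good_gi [Finite G] {x : G} (hx : x ∈ centralizer (F : Set G)) (hb : BadX V x) (i : Bool) :
    Good V F x (gi x i) := by
  cases i
  · exact h.good_one hx hb
  · exact h.good_self hx hb

theorem conjV_le_HX [Finite G] {x g : G} (hg : Good V F x g) : MulAut.conj g • V ≤ HX V F x :=
  le_inf hg.norm (h.conjV_le_X hg.gX)

omit h in
/-- the section `EX / F` -/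
theorem exists_sectEX {x : G} (hx : x ∈ centralizer (F : Set G)) :
    ∃ (M : Type u) (_ : Group M), Nonempty (Sect (HX V F x) (EX V F x) F M) := by
  refine exists_sect (fun n hn d hd => ?_) (fun h hh n hn => norm_mem hh.1 hn) fun h hh d hd => ?_
  · exact norm_mem (X_norm_F (W_le_X (EEx_le_W hx hn))) hd
  · exact norm_mem (X_norm_F hh.2) hd

/-- `V^{g}` and `V^{g'}` induce the same group on `EX / F` if `E^g = E^{g'}`. -/
theorem A_eq [Finite G] {x g g' : G} (hx : x ∈ centralizer (F : Set G)) (hg : Good V F x g)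
    (hg' : Good V F x g') (hE : MulAut.conj g • EE V F = MulAut.conj g' • EE V F)
    (hF0 : ∀ y ∈ centralizer (F : Set G), MulAut.conj y • EE V F = EE V F →
      ∃ z ∈ centralizer (EE V F : Set G), MulAut.conj y • V = MulAut.conj z • V)
    {M : Type u} [Group M] (s : Sect (HX V F x) (EX V F x) F M) :
    s.A (MulAut.conj g • V) ≤ s.A (MulAut.conj g' • V) := by
  -- `y = g'⁻¹ g` fixes `E`
  have hyE : MulAut.conj (g'⁻¹ * g) • EE V F = EE V F := by
    rw [← conj_conj, hE, conj_conj, inv_mul_cancel, map_one, one_smul]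
  obtain ⟨z, hz, hyz⟩ := hF0 _ (mul_mem (inv_mem hg'.gX) hg.gX) hyE
  rintro _ ⟨⟨w, hwH⟩, hw, rfl⟩
  have hw' : w ∈ MulAut.conj g • V := hw
  -- `w = g' z v z⁻¹ g'⁻¹`
  have h1 : MulAut.conj g • V = MulAut.conj (g' * z) • V := by
    rw [← conj_conj g', ← hyz, conj_conj, mul_inv_cancel_left]
  rw [h1] at hw'
  obtain ⟨v, hv, rfl⟩ := mem_conj'.1 hw'
  have h2 : g' * v * g'⁻¹ ∈ MulAut.conj g' • V := Frame.conj_mem hv
  refine ⟨⟨g' * v * g'⁻¹, h.conjV_le_HX hg' h2⟩, h2, ?_⟩
  rw [s.ρ_eq_iff]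
  intro n hn
  have hnW : n ∈ WW V F := EEx_le_W hx hn
  have hn' : g'⁻¹ * n * g' ∈ WW V F := by
    have := conj_mem_W (inv_mem hg'.gX) hnW
    rwa [inv_inv] at this
  have h3 := h.comm_conj_mem hz hv hn'
  have h4 := norm_mem (X_norm_F hg'.gX) h3
  -- move to the other side
  have hnX : n ∈ centralizer (F : Set G) := W_le_X hnW
  have h5 := norm_mem' (X_norm_F hnX) h4
  have e : n⁻¹ * (g' * ((c v (g'⁻¹ * n * g'))⁻¹ * c (z * v * z⁻¹) (g'⁻¹ * n * g')) * g'⁻¹) * n =
      n⁻¹ * ((c (g' * v * g'⁻¹) n)⁻¹ * c (g' * z * v * (g' * z)⁻¹) n) * n := by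
    rw [c, c, c, c]; group
  rw [e] at h5
  have e2 : n⁻¹ * ((c (g' * v * g'⁻¹) n)⁻¹ * c (g' * z * v * (g' * z)⁻¹) n) * n =
      (g' * v * g'⁻¹ * n * (g' * v * g'⁻¹)⁻¹)⁻¹ *
        (g' * z * v * (g' * z)⁻¹ * n * (g' * z * v * (g' * z)⁻¹)⁻¹) := by
    rw [c, c]; group
  rw [e2] at h5
  exact h5

/-- **(F1), (F2): the instance of `Spr`.** -/
theorem exists_spr [Finite G] {x : G} (hx : x ∈ centralizer (F : Set G)) (hb : BadX V x)
    (hF0 : ∀ y ∈ centralizer (F : Set G), MulAut.conj y • EE V F = EE V F →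
      ∃ z ∈ centralizer (EE V F : Set G), MulAut.conj y • V = MulAut.conj z • V)
    {M : Type u} [Group M] (s : Sect (HX V F x) (EX V F x) F M) :
    Spr (fun i => s.B (MulAut.conj (gi x i) • EE V F)) (fun i => s.A (MulAut.conj (gi x i) • V)) := by
  have hgood := h.good_gi hx hb
  have hFB : ∀ g ∈ centralizer (F : Set G), F ≤ MulAut.conj g • EE V F := fun g hg => h.F_le_conjE hg
  have hXW : EX V F x ≤ WW V F := EEx_le_W hx
  have e0 : MulAut.conj (gi x false) • EE V F = EE V F := by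
    change MulAut.conj (1 : G) • EE V F = EE V F
    rw [map_one, one_smul]
  have e0V : MulAut.conj (gi x false) • V = V := by
    change MulAut.conj (1 : G) • V = V
    rw [map_one, one_smul]
  have hA1 : ∀ (i : Bool) (k : G) (hk : k ∈ MulAut.conj (gi x i) • V),
      s.ρ ⟨k, h.conjV_le_HX (hgood i) hk⟩ = 1 ↔ k ∈ MulAut.conj (gi x i) • EE V F := by
    intro i k hk
    rw [s.ρ_eq_one_iff]
    exact h.ker_conj hx hb (hgood i) hk
  have hAcard : ∀ i, Nat.card (s.A (MulAut.conj (gi x i) • V)) = (EE V F).relIndex V := by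
    intro i
    rw [s.card_A (h.conjV_le_HX (hgood i)) (hA1 i)]
    have e1 := card_mul_relIndex' (inf_le_left : EE V F ≤ V)
    have e2 := card_mul_relIndex' (conjE_le_conjV (V := V) (F := F) (gi x i))
    rw [Choice.card_conj, Choice.card_conj, ← e1] at e2
    exact Nat.eq_of_mul_eq_mul_left Nat.card_pos e2
  have hBcard : ∀ i, Nat.card (s.B (MulAut.conj (gi x i) • EE V F)) = F.relIndex (EE V F) := by
    intro i
    rw [s.card_B (hgood i).le]
    have e1 := card_mul_relIndex' h.F_le_E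
    have e2 := card_mul_relIndex' (hFB _ (hgood i).gX)
    rw [Choice.card_conj, ← e1] at e2
    exact Nat.eq_of_mul_eq_mul_left Nat.card_pos e2
  have hL : ∀ y ∈ s.A (MulAut.conj (gi x false) • V) ⊔ s.A (MulAut.conj (gi x true) • V),
      ∃ l : ↥(HX V F x), s.ρ l = y := by
    intro y hy
    rw [s.A_sup (h.conjV_le_HX (hgood false)) (h.conjV_le_HX (hgood true))] at hy
    obtain ⟨l, -, hl⟩ := hy
    exact ⟨l, hl⟩
  have hgl : ∀ (l : ↥(HX V F x)) (i : Bool), Good V F x ((l : G) * gi x i) := fun l i =>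
    (hgood i).mul l.2.1 l.2.2
  exact
  { comm := by
      intro m n
      obtain ⟨a, rfl⟩ := s.surj m
      obtain ⟨b, rfl⟩ := s.surj n
      rw [← map_mul, ← map_mul, s.π_eq_iff]
      have h1 := h.comm_WW (inv_mem (hXW b.2)) (inv_mem (hXW a.2))
      have e : (((a * b : ↥(EX V F x)) : G))⁻¹ * ((b * a : ↥(EX V F x)) : G) = c (b : G)⁻¹ (a : G)⁻¹ := by
        rw [c]; push_cast; group
      rw [e]
      exact h1
    sq := by
      intro m
      obtain ⟨a, rfl⟩ := s.surj m
      rw [← map_mul, s.ker]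
      exact h.sq_W (hXW a.2)
    disj := by
      rw [s.B_inf (hFB _ (hgood true).gX), ← s.B_D, e0]
      congr 1
      apply le_antisymm
      · rw [← h.inf_eq_of_bad hx hb]
        exact inf_le_inf inf_le_left (conjE_le_conjV x)
      · exact le_inf h.F_le_E (hFB x hx)
    sup := by
      rw [s.B_sup (hgood false).le (hgood true).le, e0]
      exact s.B_N
    card := by
      rw [hBcard, hBcard]
    ne := by
      intro i h1
      rw [← s.B_D] at h1
      exact h.conjE_ne _ (hgood i).gX (s.B_inj (hFB _ (hgood i).gX) (hgood i).le le_rfl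
        (h.F_le_E.trans le_sup_left) h1)
    Acomm := by
      rintro i _ ⟨a, ha, rfl⟩ _ ⟨b, hb', rfl⟩
      rw [← map_mul, ← map_mul]
      congr 1
      apply Subtype.ext
      exact comm_of_le_centralizer (conj_le_centralizer h.comm) ha hb'
    Asq := by
      rintro i _ ⟨a, ha, rfl⟩
      rw [← map_mul]
      have ha' : (a : G) ∈ MulAut.conj (gi x i) • V := ha
      obtain ⟨v, hv, hva⟩ := mem_conj'.1 ha'
      have h1 : a * a = 1 := by
        apply Subtype.ext
        push_cast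
        rw [hva]
        have := h.sq' hv
        calc gi x i * v * (gi x i)⁻¹ * (gi x i * v * (gi x i)⁻¹) = gi x i * (v * v) * (gi x i)⁻¹ := by group
          _ = 1 := by rw [this]; group
      rw [h1, map_one]
    Acard := by
      rw [hAcard, hAcard]
    Ane := by
      intro i h1
      obtain ⟨w, hw, hwE⟩ := h.exists_not_mem_conj (gi x i)
      refine hwE ((hA1 i w hw).1 ?_)
      have h2 : s.ρ ⟨w, h.conjV_le_HX (hgood i) hw⟩ ∈ s.A (MulAut.conj (gi x i) • V) := ⟨_, hw, rfl⟩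
      have h1' : s.A (MulAut.conj (gi x i) • V) = ⊥ := h1
      rw [h1'] at h2
      exact mem_bot.1 h2
    fix := by
      rintro i _ ⟨a, ha, rfl⟩ _ ⟨n, hn, rfl⟩
      rw [s.ρπ]
      congr 1
      apply Subtype.ext
      have h1 : (a : G) * n = n * a :=
        comm_of_le_centralizer (conj_le_centralizer h.comm) ha (conjE_le_conjV _ hn)
      change (a : G) * n * (a : G)⁻¹ = n
      rw [h1, mul_inv_cancel_right]
    into := by
      rintro i _ ⟨a, ha, rfl⟩ m
      obtain ⟨n, rfl⟩ := s.surj m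
      rw [s.ρπ, ← map_inv, ← map_mul]
      rw [s.mem_B (hFB _ (hgood i).gX)]
      exact h.comm_conjVW (hgood i).gX ha (hXW n.2)
    free := by
      rintro i _ ⟨a, ha, rfl⟩ hne m hm
      obtain ⟨n, rfl⟩ := s.surj m
      rw [s.mem_B (hFB _ (hgood i).gX)]
      refine (hgood i).reg n n.2 a ha (fun h1 => hne ((hA1 i a ha).2 h1)) ?_
      rw [s.ρπ, s.π_eq_iff] at hm
      have h1 := norm_mem (X_norm_F (W_le_X (hXW n.2))) (inv_mem hm)
      have e : (n : G) * (((⟨a * n * (a : G)⁻¹, s.nN a a.2 n n.2⟩ : ↥(EX V F x)) : G)⁻¹ * (n : G))⁻¹ *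
          (n : G)⁻¹ = c (a : G) n := by
        change (n : G) * (((a : G) * n * (a : G)⁻¹)⁻¹ * (n : G))⁻¹ * (n : G)⁻¹ = _
        rw [c]
        group
      rwa [e] at h1
    spread := by
      intro i j y hy
      obtain ⟨l, rfl⟩ := hL y hy
      rw [s.B_map, conj_conj]
      rcases h.dich hx (hgl l i) (hgood j) with ⟨h1, -⟩ | ⟨-, h1⟩
      · left; rw [h1]
      · right
        rw [s.B_inf (hFB _ (hgood j).gX), h1, s.B_D]
    stab := by
      intro i j y hy hB
      obtain ⟨l, rfl⟩ := hL y hy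
      change (s.B _).map _ = s.B _ at hB
      rw [s.B_map, conj_conj] at hB
      rw [s.A_map, conj_conj]
      have h1 := s.B_inj (hFB _ (hgl l i).gX) (hgl l i).le (hFB _ (hgood j).gX) (hgood j).le hB
      exact le_antisymm (h.A_eq hx (hgl l i) (hgood j) h1 hF0 s)
        (h.A_eq hx (hgood j) (hgl l i) h1.symm hF0 s) }

end Hyp

end Cfsg.Agent.Omega.NOne.Flat

end

private theorem dce_c0d6377f01eb : _root_.True := by
  try have : _root_.True := by simp only [_root_.Cfsg.Agent.Omega.NOne.Flat.Sect.A.eq_1]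
  try have : _root_.True := by simp only [_root_.Cfsg.Agent.Omega.NOne.Flat.Sect.B.eq_1]
  exact _root_.True.intro
end

-- part: Mrg/Omega/NO1/Types
section
prune_inst 0x100001001422000000180000000000003000000000000000200000000000800020008001302000000000084020080008139800000000000000000000000000000000000000000000000000000000000000000000000000000000000000000000000000000
set_option linter.all false
open scoped Cfsg.Agent.FastGrp

-- merged: Cfsg.Agent.Mrg.Omega.NO1.Cfg
section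

section


/-!
# The configuration of the leaf N1 (= NO-1', MASTER v5.2, project OMEGA)

`Cfg S P` : `G` as in `Frame.Ctx`, `S` a Sylow 2-subgroup, `Full S`, `P ∈ P*(S)` with
`V = V_P ≰ Q = O₂(C)`, `C = C_G(Ω₁(Z(S)))`; so `(P, C)` is nonlocal and `C_V(O²(P)) = 1`.
(No hypothesis on mutual pairs.)

* facts on `V`, `C`, `Q`;
* `Cfg.exists_near` : for every `v ∈ V - Q` there is a frame `Near V (V ∩ Q) D F v` (NOne/NearFF).
-/

set_option autoImplicit false
set_option linter.unusedSectionVars false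

namespace Cfsg.Agent.Omega.NO1

open Subgroup Cfsg Cfsg.Agent.ZN Cfsg.Agent.Omega.MinPar Cfsg.Agent.Omega.Frame
open Cfsg.Agent.MinSimple.VModule (oddGen)
open Cfsg.Agent.Omega.NoFF.LinesPlug (CC NoOne)
open Cfsg.Agent.Omega.NOne.NearFF
open scoped Pointwise

universe u

variable {G : Type u} [Group G] [Finite G]

/-- The configuration of N1. -/
structure Cfg (S : Sylow 2 G) (P : Subgroup G) : Prop where
  ctx : _root_.Cfsg.Agent.Omega.Frame.Ctx G
  full : Full (S : Subgroup G)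
  one : NoOne (S : Subgroup G) P

/-- The configuration from the hypotheses of `FrameLE.NodeN1`. -/
theorem Cfg.of {S : Sylow 2 G} {P : Subgroup G} (h : _root_.Cfsg.Agent.Omega.Frame.Ctx G) (hF : Full (S : Subgroup G))
    (hP : IsParS (S : Subgroup G) P)
    (hV : ¬ zl (S : Subgroup G) P ≤ o2 (FrameNOFF.CZ (S : Subgroup G))) : Cfg S P := by
  have h1 := NoFF.LinesPlug.nonLoc h.char2 S hP hV
  exact ⟨h, hF, hP, hV, h1, NoFF.LinesPlug.inf_oddGen_eq_bot h.char2 S hP.toIsPar
    (NoFF.LinesPlug.inf_eq_bot S h1)⟩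

namespace Cfg

variable {S : Sylow 2 G} {P : Subgroup G} (h : Cfg S P)
include h

theorem par : IsPar (S : Subgroup G) P := h.one.star.toIsPar

theorem loc : IsLoc (S : Subgroup G) P := h.par.isLoc

theorem S_le : (S : Subgroup G) ≤ P := h.loc.le

omit h in
theorem S_le_CC (S : Sylow 2 G) : (S : Subgroup G) ≤ CC (S : Subgroup G) := le_centralizer_zc _

theorem locC : IsLoc (S : Subgroup G) (CC (S : Subgroup G)) :=
  isLoc_centralizer_zc S (h.ctx.sylow_ne_bot S)

theorem V_le_o2 : zl (S : Subgroup G) P ≤ o2 P :=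
  (h.loc.zl_le S h.ctx.char2).trans (zc_le _)

theorem V_le_S : zl (S : Subgroup G) P ≤ S := h.V_le_o2.trans (h.loc.o2_le S)

theorem V_le_CC : zl (S : Subgroup G) P ≤ CC (S : Subgroup G) := h.V_le_S.trans (S_le_CC S)

theorem V_comm : zl (S : Subgroup G) P ≤ centralizer (zl (S : Subgroup G) P : Set G) := by
  have h1 := h.loc.zl_le S h.ctx.char2
  intro x hx
  rw [mem_centralizer_iff]
  intro y hy
  exact MinSimple.VModule.zc_comm _ _ (h1 hy) _ (h1 hx)

theorem V_sq (w : G) (hw : w ∈ zl (S : Subgroup G) P) : w ^ 2 = 1 :=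
  MinSimple.VModule.zc_sq _ _ (h.loc.zl_le S h.ctx.char2 hw)

theorem V_isPGroup : IsPGroup 2 (zl (S : Subgroup G) P) := S.isPGroup'.to_le h.V_le_S

/-- `Q = O₂(C) ≤ S` -/
theorem Q_le_S : o2 (CC (S : Subgroup G)) ≤ S := h.locC.o2_le S

omit h in
theorem P_norm_V (S : Sylow 2 G) (P : Subgroup G) : P ≤ normalizer (zl (S : Subgroup G) P : Set G) :=
  le_normalizer_zl _ _

theorem Q_norm_V : o2 (CC (S : Subgroup G)) ≤ normalizer (zl (S : Subgroup G) P : Set G) :=
  (h.Q_le_S.trans h.S_le).trans (P_norm_V S P)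

theorem char2C : CC (S : Subgroup G) ⊓ centralizer (o2 (CC (S : Subgroup G)) : Set G) ≤
    o2 (CC (S : Subgroup G)) := h.locC.char2 S h.ctx.char2

theorem Z_le_V : zc (S : Subgroup G) ≤ zl (S : Subgroup G) P := MinSimple.VModule.zc_le_zl _ _

/-- `Z ≤ Q` -/
theorem Z_le_Q : zc (S : Subgroup G) ≤ o2 (CC (S : Subgroup G)) := by
  exact le_o2 ((zc_le _).trans (S_le_CC S)) (S.isPGroup'.to_le (zc_le _)) (centralizer_le_normalizer _)

theorem Z_le_E : zc (S : Subgroup G) ≤ zl (S : Subgroup G) P ⊓ o2 (CC (S : Subgroup G)) :=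
  le_inf h.Z_le_V h.Z_le_Q

/-- There is `v ∈ V - Q`. -/
theorem exists_v : ∃ v ∈ zl (S : Subgroup G) P, v ∉ o2 (CC (S : Subgroup G)) := by
  by_contra hcon
  push Not at hcon
  exact h.one.not_le hcon

/-- `C_S(V) = O₂(P)` -/
theorem S_inf_centralizer :
    (S : Subgroup G) ⊓ centralizer (zl (S : Subgroup G) P : Set G) = o2 P :=
  h.one.star.inf_centralizer S h.ctx.char2

/-- **The frame** at `v ∈ V - Q`. -/
theorem exists_near {v : G} (hv : v ∈ zl (S : Subgroup G) P) (hvQ : v ∉ o2 (CC (S : Subgroup G))) :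
    ∃ g ∈ CC (S : Subgroup G), _root_.Cfsg.Agent.Omega.NOne.NearFF.Fin (zl (S : Subgroup G) P) (o2 (CC (S : Subgroup G))) v g ∧
      ¬ IsPGroup 2 (NOne.Frame.X (V1 (zl (S : Subgroup G) P) (o2 (CC (S : Subgroup G))) v) g) ∧
      ∀ y ∈ CC (S : Subgroup G),
        Nat.card (NOne.Frame.X (V1 (zl (S : Subgroup G) P) (o2 (CC (S : Subgroup G))) v) y) <
          Nat.card (NOne.Frame.X (V1 (zl (S : Subgroup G) P) (o2 (CC (S : Subgroup G))) v) g) →
        IsPGroup 2 (NOne.Frame.X (V1 (zl (S : Subgroup G) P) (o2 (CC (S : Subgroup G))) v) y) :=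
  NOne.NearFF.exists_near h.char2C h.V_le_CC h.V_comm h.V_sq h.Q_norm_V hv hvQ

/-- `Z ≤ D` in every frame. -/
theorem Z_le_D {g : G} (hg : g ∈ CC (S : Subgroup G)) :
    zc (S : Subgroup G) ≤ (zl (S : Subgroup G) P ⊓ o2 (CC (S : Subgroup G))) ⊓
      MulAut.conj g • (zl (S : Subgroup G) P ⊓ o2 (CC (S : Subgroup G))) :=
  NOne.NearFF.le_D h.Z_le_E fun z hz => (mem_centralizer_iff.1 hg z hz).symm

end Cfg

end Cfsg.Agent.Omega.NO1

end

section


/-!
# N1: `V_P` as an additive module for the group induced by `P` (project OMEGA, assembler helper406)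

`Rep S P V Y M T Mx` : `M` is `V` as an additive group (`el : M → G`), `Y` is the group induced by `P`
(`ac : P →* Y`), `T` the image of `S`, `Mx` the unique maximal subgroup of `Y` over `T`, `O₂(Y) = 1`.
-/

set_option autoImplicit false
set_option linter.unusedSectionVars false

namespace Cfsg.Agent.Omega.NO1

open Subgroup Cfsg Cfsg.Agent.ZN Cfsg.Agent.Omega.MinPar Cfsg.Agent.Omega.Frame
open Cfsg.Agent.Omega.FFBr (XX pr Abs)
open Cfsg.Agent.Omega.NoFF.LinesPlug (CC)

universe u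

/-- `V` as a module for the group induced by `P`. -/
structure Rep {G : Type u} [Group G] (S P V : Subgroup G) (Y M : Type u) [Group Y] [AddCommGroup M]
    [DistribMulAction Y M] (T : Sylow 2 Y) (Mx : Subgroup Y) where
  el : M → G
  mem : ∀ m, el m ∈ V
  add : ∀ m n, el (m + n) = el m * el n
  inj : Function.Injective el
  surj : ∀ v ∈ V, ∃ m, el m = v
  ac : P →* Y
  acs : Function.Surjective ac
  smul : ∀ (p : P) (m : M), el (ac p • m) = p * el m * (p : G)⁻¹
  two : ∀ m : M, m + m = 0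
  faith : ∀ y : Y, (∀ m : M, y • m = m) → y = 1
  core : ∀ N : Subgroup Y, N.Normal → IsPGroup 2 N → N = ⊥
  mem_T : ∀ y, y ∈ T ↔ ∃ t : P, (t : G) ∈ S ∧ ac t = y
  TM : (T : Subgroup Y) ≤ Mx
  Mne : Mx ≠ ⊤
  max : ∀ K : Subgroup Y, (T : Subgroup Y) ≤ K → K ≠ ⊤ → K ≤ Mx

section AV

variable {G : Type u} [Group G]

/-- `V` additively -/
def AV (V : Subgroup G) (_ : ∀ v w : V, v * w = w * v) : Type u := Additive V

variable {V : Subgroup G} {hc : ∀ v w : V, v * w = w * v}

instance : AddCommGroup (AV V hc) :=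
  { (inferInstance : AddGroup (Additive V)) with
    add_comm := fun a b => congrArg Additive.ofMul (hc a.toMul b.toMul) }

instance {P : Subgroup G} (h : P ≤ normalizer (V : Set G)) : DistribMulAction (XX h) (AV V hc) where
  smul x m := Additive.ofMul ((x : MulAut V) m.toMul)
  one_smul m := rfl
  mul_smul x y m := rfl
  smul_zero x := by
    change Additive.ofMul ((x : MulAut V) 1) = _
    rw [map_one]; rfl
  smul_add x a b := by
    change Additive.ofMul ((x : MulAut V) (a.toMul * b.toMul)) = _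
    rw [map_mul]; rfl

end AV

variable {G : Type u} [Group G] [Finite G] {S : Sylow 2 G} {P : Subgroup G}

theorem Cfg.exists_rep (h : Cfg S P) :
    ∃ (Y M : Type u) (_ : Group Y) (_ : Finite Y) (_ : AddCommGroup M) (_ : Finite M)
      (_ : DistribMulAction Y M) (T : Sylow 2 Y) (Mx : Subgroup Y),
      Nonempty (Rep (S : Subgroup G) P (zl (S : Subgroup G) P) Y M T Mx) := by
  have hN := Cfg.P_norm_V S P
  have hc : ¬ P ≤ centralizer (zl (S : Subgroup G) P : Set G) := by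
    intro h1
    exact h.one.star.not_zc ((h1.trans (centralizer_le h.Z_le_V)).trans (centralizer_le_normalizer _))
  obtain ⟨T, Mx, hA, hT⟩ := FFBr.abs_of (T := (S : Subgroup G)) (H := P)
    ⟨h.S_le, S.isPGroup', fun _ _ hT hST => S.is_maximal' hT hST⟩
    h.par.toIsMinPar (h.loc.char2 S h.ctx.char2) hc hN
  refine ⟨XX hN, AV (zl (S : Subgroup G) P) hA.comm, inferInstance, inferInstance, inferInstance,
    inferInstanceAs (Finite (zl (S : Subgroup G) P)), inferInstance, T, Mx, ⟨?_⟩⟩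
  exact
    { el := fun m => ((Additive.toMul m : zl (S : Subgroup G) P) : G)
      mem := fun m => (Additive.toMul m : zl (S : Subgroup G) P).2
      add := fun m n => rfl
      inj := fun a b hab => by
        have : (Additive.toMul a : zl (S : Subgroup G) P) = Additive.toMul b := Subtype.ext hab
        exact congrArg Additive.ofMul this
      surj := fun v hv => ⟨Additive.ofMul (⟨v, hv⟩ : zl (S : Subgroup G) P), rfl⟩
      ac := pr hN
      acs := FFBr.pr_surjective hN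
      smul := fun p m => rfl
      two := fun m => congrArg Additive.ofMul (hA.sq (Additive.toMul m))
      faith := fun y hy => hA.faith y fun v => by
        have h1 := hy (Additive.ofMul v)
        exact congrArg Additive.toMul h1
      core := hA.core
      mem_T := hT
      TM := hA.TM
      Mne := hA.Mne
      max := fun K hK hK1 => (hA.max K hK).resolve_right hK1 }

end Cfsg.Agent.Omega.NO1

end

section


/-!
# N1, (BT) with `|V / E| = 2`: facts in `G` for the bridge (project OMEGA, assembler helper406)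

`V = V_P`, `Ω₁(Z(S)) = {1, z}`, `Q_x = O₂(C_G(x))`, `E_x = V ∩ Q_x` for the `P`-conjugates `x` of `z`.
-/

set_option autoImplicit false
set_option linter.unusedSectionVars false

namespace Cfsg.Agent.Omega.NO1.TwoG

open Subgroup Cfsg Cfsg.Agent.ZN Cfsg.Agent.Omega.MinPar Cfsg.Agent.Omega.Frame
open Cfsg.Agent.Omega.NoFF.LinesPlug (CC)
open Cfsg.Agent.Omega.NoFF.Basic (mem_conj conj_le_iff conj_conj)
open Cfsg.Agent.Omega.NOne.Frame (mem_conj' X norm_mem comm_of_le_centralizer)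
open Cfsg.Agent.Omega.NOne.NearFF
open scoped Pointwise

universe u

variable {G : Type u} [Group G]

/-- `Q_x = O₂(C_G(x))` -/
abbrev Qx (x : G) : Subgroup G := o2 (centralizer ({x} : Set G))

/-- `E_x = V ∩ Q_x` -/
abbrev Ex (V : Subgroup G) (x : G) : Subgroup G := V ⊓ Qx x

theorem idx2 {E V : Subgroup G} (h2 : E.relIndex V = 2) {a b : G} (ha : a ∈ V) (hb : b ∈ V) :
    a * b ∈ E ↔ (a ∈ E ↔ b ∈ E) := by
  have h1 := Subgroup.mul_mem_iff_of_index_two (H := E.subgroupOf V) h2 (a := ⟨a, ha⟩) (b := ⟨b, hb⟩)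
  exact h1

theorem cent_conj (p x : G) : centralizer ({p * x * p⁻¹} : Set G) = MulAut.conj p • centralizer ({x} : Set G) := by
  ext y
  rw [mem_conj, mem_centralizer_singleton_iff, mem_centralizer_singleton_iff]
  constructor
  · intro h
    calc p⁻¹ * y * p * x = p⁻¹ * (y * (p * x * p⁻¹)) * p := by group
      _ = p⁻¹ * ((p * x * p⁻¹) * y) * p := by rw [h]
      _ = x * (p⁻¹ * y * p) := by group
  · intro h
    calc y * (p * x * p⁻¹) = p * (p⁻¹ * y * p * x) * p⁻¹ := by group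
      _ = p * (x * (p⁻¹ * y * p)) * p⁻¹ := by rw [h]
      _ = (p * x * p⁻¹) * y := by group

theorem o2_conj_smul (p : G) (L : Subgroup G) : o2 (MulAut.conj p • L) = MulAut.conj p • o2 L :=
  o2_map_equiv (MulAut.conj p) L

theorem Qx_conj (p x : G) : Qx (p * x * p⁻¹) = MulAut.conj p • Qx x := by
  rw [Qx, cent_conj, o2_conj_smul]

theorem conj_V {V P : Subgroup G} (h : P ≤ normalizer (V : Set G)) {p : G} (hp : p ∈ P) :
    MulAut.conj p • V = V := by
  ext y
  rw [mem_conj]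
  exact (mem_normalizer_iff''.1 (h hp) y).symm

theorem Ex_conj {V P : Subgroup G} (h : P ≤ normalizer (V : Set G)) {p : G} (hp : p ∈ P) (x : G) :
    Ex V (p * x * p⁻¹) = MulAut.conj p • Ex V x := by
  rw [Ex, Qx_conj, Ex, smul_inf, conj_V h hp]

section Cfg

variable [Finite G] {S : Sylow 2 G} {P : Subgroup G}

theorem exists_z (hZ : Nat.card (zc (S : Subgroup G)) = 2) :
    ∃ z ∈ zc (S : Subgroup G), z ≠ 1 ∧ ∀ x ∈ zc (S : Subgroup G), x = 1 ∨ x = z := by
  obtain ⟨x, y, hxy, hu⟩ := Nat.card_eq_two_iff.1 hZ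
  by_cases hx : x = 1
  · refine ⟨y, y.2, fun h => hxy ?_, fun w hw => ?_⟩
    · rw [hx]; exact Subtype.ext h.symm
    · have : (⟨w, hw⟩ : zc (S : Subgroup G)) ∈ ({x, y} : Set _) := by rw [hu]; trivial
      rcases this with h | h
      · left; rw [hx] at h; exact congrArg Subtype.val h
      · right; exact congrArg Subtype.val h
  · refine ⟨x, x.2, fun h => hx (Subtype.ext h), fun w hw => ?_⟩
    have h1 : (1 : zc (S : Subgroup G)) ∈ ({x, y} : Set _) := by rw [hu]; trivial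
    have hy : y = 1 := by
      rcases h1 with h | h
      · exact absurd h.symm hx
      · exact h.symm
    have : (⟨w, hw⟩ : zc (S : Subgroup G)) ∈ ({x, y} : Set _) := by rw [hu]; trivial
    rcases this with h | h
    · right; exact congrArg Subtype.val h
    · left; rw [hy] at h; exact congrArg Subtype.val h

/-- The data `z`. -/
structure Zd (S : Sylow 2 G) (z : G) : Prop where
  mem : z ∈ zc (S : Subgroup G)
  ne : z ≠ 1
  eq : ∀ x ∈ zc (S : Subgroup G), x = 1 ∨ x = z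

theorem Zd.CC {z : G} (hz : Zd S z) : CC (S : Subgroup G) = centralizer ({z} : Set G) := by
  apply le_antisymm
  · exact centralizer_le (Set.singleton_subset_iff.2 hz.mem)
  · intro y hy
    rw [mem_centralizer_singleton_iff] at hy
    rw [mem_centralizer_iff]
    intro x hx
    rcases hz.eq x hx with rfl | rfl
    · rw [one_mul, mul_one]
    · exact hy.symm

variable (h : Cfg S P) {z : G} (hz : Zd S z)
include h hz

theorem Q_eq : o2 (CC (S : Subgroup G)) = Qx z := by rw [hz.CC]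

/-- `Q_x ≤ P` normalises `V` -/
theorem Qx_le_P {p : G} (hp : p ∈ P) : Qx (p * z * p⁻¹) ≤ P := by
  rw [Qx_conj]
  intro y hy
  rw [mem_conj] at hy
  have h1 : p⁻¹ * y * p ∈ P := h.S_le (h.Q_le_S (by rw [Q_eq h hz]; exact hy))
  have e : y = p * (p⁻¹ * y * p) * p⁻¹ := by group
  rw [e]
  exact mul_mem (mul_mem hp h1) (inv_mem hp)

theorem relIndex_Ex (hA : (Ex (zl (S : Subgroup G) P) z).relIndex (zl (S : Subgroup G) P) = 2) {p : G}
    (hp : p ∈ P) :
    (Ex (zl (S : Subgroup G) P) (p * z * p⁻¹)).relIndex (zl (S : Subgroup G) P) = 2 := by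
  have hV := conj_V (Cfg.P_norm_V S P) hp
  have h1 := relIndex_pointwise_smul (MulAut.conj p) (Ex (zl (S : Subgroup G) P) z) (zl (S : Subgroup G) P)
  rw [hV, hA] at h1
  rw [Ex_conj (Cfg.P_norm_V S P) hp]
  exact h1

end Cfg

/-! ### (*) -/

section star

/-- If `V = (V ∩ Q) (V ∩ Q')`, `Q`, `Q'` normalise `V` and `g` normalises `Q`, `Q'`, then `⟨V, V^g⟩` is a
2-group. -/
theorem isPGroup_X {V Q Q' : Subgroup G} {g : G} (hV2 : IsPGroup 2 V) (hsup : (V ⊓ Q) ⊔ (V ⊓ Q') = V)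
    (hQ : Q ≤ normalizer (V : Set G)) (hQ' : Q' ≤ normalizer (V : Set G))
    (hgQ : MulAut.conj g • Q = Q) (hgQ' : MulAut.conj g • Q' = Q') : IsPGroup 2 (X V g) := by
  have h1 : MulAut.conj g • ((V ⊓ Q) ⊔ (V ⊓ Q')) ≤ normalizer (V : Set G) := by
    rw [smul_sup]
    refine sup_le (le_trans ?_ hQ) (le_trans ?_ hQ')
    · calc MulAut.conj g • (V ⊓ Q) ≤ MulAut.conj g • Q := conj_le_iff.2 inf_le_right
        _ = Q := hgQ
    · calc MulAut.conj g • (V ⊓ Q') ≤ MulAut.conj g • Q' := conj_le_iff.2 inf_le_right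
        _ = Q' := hgQ'
  rw [hsup] at h1
  refine hV2.to_sup_of_normal_left' ?_ h1
  exact hV2.map _

theorem sup_eq_of_index_two [Finite G] {V A B : Subgroup G} (hA : A ≤ V) (hB : B ≤ V)
    (hA2 : A.relIndex V = 2) (hB2 : B.relIndex V = 2) (hne : A ≠ B) : A ⊔ B = V := by
  have h1 : A ⊔ B ≤ V := sup_le hA hB
  have h2 := relIndex_mul_relIndex A (A ⊔ B) V le_sup_left h1
  rw [hA2] at h2
  have h3 : (A ⊔ B).relIndex V ∣ 2 := ⟨_, by rw [mul_comm]; exact h2.symm⟩
  rcases (Nat.dvd_prime Nat.prime_two).1 h3 with h4 | h4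
  · exact le_antisymm h1 (relIndex_eq_one.1 h4)
  · exfalso
    rw [h4] at h2
    have h5 : A.relIndex (A ⊔ B) = 1 := by omega
    have h6 : A ⊔ B ≤ A := relIndex_eq_one.1 h5
    have h7 : B ≤ A := le_sup_right.trans h6
    apply hne
    have h8 := relIndex_mul_relIndex B A V h7 hA
    rw [hB2, hA2] at h8
    have h9 : B.relIndex A = 1 := by omega
    exact le_antisymm (relIndex_eq_one.1 h9) h7

variable [Finite G] {S : Sylow 2 G} {P : Subgroup G} (h : Cfg S P) {z : G} (hz : Zd S z)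
include h hz

theorem star (hA : (Ex (zl (S : Subgroup G) P) z).relIndex (zl (S : Subgroup G) P) = 2)
    {v g : G} (hF : _root_.Cfsg.Agent.Omega.NOne.NearFF.Fin (zl (S : Subgroup G) P) (Qx z) v g) (hv : v ∈ zl (S : Subgroup G) P)
    (hX : ¬ IsPGroup 2 (X (V1 (zl (S : Subgroup G) P) (Qx z) v) g))
    {p : G} (hp : p ∈ P)
    (hy : p * z * p⁻¹ ∈ (zl (S : Subgroup G) P ⊓ Qx z) ⊓ MulAut.conj g • (zl (S : Subgroup G) P ⊓ Qx z)) :
    Ex (zl (S : Subgroup G) P) (p * z * p⁻¹) = Ex (zl (S : Subgroup G) P) z := by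
  by_contra hne
  have hV1 : V1 (zl (S : Subgroup G) P) (Qx z) v ≤ zl (S : Subgroup G) P := V1_le hv
  have hXle : X (V1 (zl (S : Subgroup G) P) (Qx z) v) g ≤ X (zl (S : Subgroup G) P) g :=
    sup_le_sup hV1 (conj_le_iff.2 hV1)
  have hgy : g * (p * z * p⁻¹) = (p * z * p⁻¹) * g := hF.cent g (hXle hF.fr.gX) _ hy
  apply hX
  refine IsPGroup.to_le ?_ hXle
  have h1 := sup_eq_of_index_two inf_le_left inf_le_left (relIndex_Ex h hz hA hp) hA hne
  refine isPGroup_X h.V_isPGroup h1 ?_ ?_ ?_ hF.fr.gQ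
  · exact (Qx_le_P h hz hp).trans (Cfg.P_norm_V S P)
  · rw [← Q_eq h hz]; exact h.Q_norm_V
  · rw [← Qx_conj, hgy, mul_inv_cancel_right]

end star

end Cfsg.Agent.Omega.NO1.TwoG

end

section


/-!
# N1, (BT) with `|V / E| = 2`: the full family (project OMEGA, assembler helper406)

`Gd z f Q x B` : all conditions of `NearFF.Dat` on `B ∈ BB x`; the family of all these `B` is equivariant, so one
good `B` at `z` gives the datum (`dat_of`).
-/

set_option autoImplicit false
set_option linter.unusedSectionVars false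

namespace Cfsg.Agent.Omega.NearFF

open Subgroup MulAction Cfsg.Agent.Omega.Transv

variable {Y : Type*} [Group Y] {V : Type*} [AddCommGroup V] [Module (ZMod 2) V] [DistribMulAction Y V]

/-- `B^g` -/
abbrev cjB (g : Y) (B : Subgroup Y) : Subgroup Y := B.map (MulAut.conj g).toMonoidHom

theorem mem_cjB {g : Y} {B : Subgroup Y} {a : Y} : a ∈ cjB g B ↔ ∃ b ∈ B, g * b * g⁻¹ = a := Iff.rfl

theorem conj_smul_iff {g b : Y} {v : V} : (g * b * g⁻¹) • v = v ↔ b • (g⁻¹ • v) = g⁻¹ • v := by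
  rw [mul_smul, mul_smul, ← eq_inv_smul_iff]

theorem fx_cjB {g : Y} {B : Subgroup Y} {v : V} : Fx (cjB g B) v ↔ Fx B (g⁻¹ • v) := by
  constructor
  · intro h b hb
    exact conj_smul_iff.1 (h _ (mem_cjB.2 ⟨b, hb, rfl⟩))
  · intro h a ha
    obtain ⟨b, hb, rfl⟩ := mem_cjB.1 ha
    exact conj_smul_iff.2 (h b hb)

theorem inv_smul_cm {g b : Y} {v : V} : g⁻¹ • cm (g * b * g⁻¹) v = cm b (g⁻¹ • v) := by
  rw [cm, cm, smul_add, smul_smul, ← mul_smul]
  congr 2
  group

theorem mem_orbit_inv_smul {z w : V} {g : Y} (hw : w ∈ orbit Y z) : g⁻¹ • w ∈ orbit Y z := by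
  obtain ⟨h, rfl⟩ := hw
  exact ⟨g⁻¹ * h, mul_smul _ _ _⟩

theorem NB.smul {φ : Du V} {B : Subgroup Y} (h : NB φ B) (g : Y) : NB (dua g φ) (cjB g B) where
  comm a ha b hb := by
    obtain ⟨a', ha', rfl⟩ := mem_cjB.1 ha
    obtain ⟨b', hb', rfl⟩ := mem_cjB.1 hb
    calc g * a' * g⁻¹ * (g * b' * g⁻¹) = g * (a' * b') * g⁻¹ := by group
      _ = g * (b' * a') * g⁻¹ := by rw [h.comm a' ha' b' hb']
      _ = g * b' * g⁻¹ * (g * a' * g⁻¹) := by group
  sq a ha := by
    obtain ⟨a', ha', rfl⟩ := mem_cjB.1 ha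
    calc g * a' * g⁻¹ * (g * a' * g⁻¹) = g * (a' * a') * g⁻¹ := by group
      _ = 1 := by rw [h.sq a' ha']; group
  ne hb := by
    apply h.ne
    rw [eq_bot_iff]
    intro b hb'
    have h1 : g * b * g⁻¹ ∈ cjB g B := mem_cjB.2 ⟨b, hb', rfl⟩
    rw [hb, mem_bot] at h1
    rw [mem_bot]
    have : b = g⁻¹ * (g * b * g⁻¹) * g := by group
    rw [this, h1]; group
  inv a ha v := by
    obtain ⟨a', ha', rfl⟩ := mem_cjB.1 ha
    rw [dua_apply, dua_apply, smul_smul]
    have e : g⁻¹ * (g * a' * g⁻¹) = a' * g⁻¹ := by group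
    rw [e, mul_smul, h.inv a' ha']
  ed e he a ha := by
    obtain ⟨a', ha', rfl⟩ := mem_cjB.1 ha
    rw [fx_cjB, inv_smul_cm]
    exact h.ed _ he a' ha'
  inj v hv a ha hf := by
    obtain ⟨a', ha', rfl⟩ := mem_cjB.1 ha
    rw [fx_cjB, inv_smul_cm] at hf
    rw [h.inj _ hv a' ha' hf]
    group
  surj v e hv he := by
    obtain ⟨b, hb, hbe⟩ := h.surj _ _ hv he
    refine ⟨_, mem_cjB.2 ⟨b, hb, rfl⟩, ?_⟩
    rw [fx_cjB, smul_add, inv_smul_cm]
    exact hbe

/-- all conditions on `B ∈ BB x` -/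
structure Gd (z : V) (f : V → Du V) (Q : V → Subgroup Y) (x : V) (B : Subgroup Y) : Prop where
  fx : Fx B x
  nb : NB (f x) B
  all : ∀ y ∈ orbit Y z, Fx B y → f y = f x ∧ B ≤ Q y ∧ Q y ≤ normalizer (B : Set Y)

variable {z : V} {f : V → Du V} {Q : V → Subgroup Y}

theorem Gd.star {x : V} {B : Subgroup Y} (h : Gd z f Q x B) {y : V} (hy : y ∈ orbit Y z) (hB : Fx B y) :
    Gd z f Q y B where
  fx := hB
  nb := by rw [(h.all y hy hB).1]; exact h.nb
  all w hw hwB := by
    refine ⟨?_, (h.all w hw hwB).2⟩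
    rw [(h.all w hw hwB).1, (h.all y hy hB).1]

theorem Gd.smul (hf : ∀ (g : Y) (x : V), x ∈ orbit Y z → f (g • x) = dua g (f x))
    (hQ : ∀ (g : Y) (x : V), x ∈ orbit Y z → ∀ a ∈ Q x, g * a * g⁻¹ ∈ Q (g • x))
    {x : V} (hx : x ∈ orbit Y z) {B : Subgroup Y} (h : Gd z f Q x B) (g : Y) : Gd z f Q (g • x) (cjB g B) where
  fx := by rw [fx_cjB, inv_smul_smul]; exact h.fx
  nb := by rw [hf g x hx]; exact h.nb.smul g
  all w hw hwB := by
    rw [fx_cjB] at hwB
    have hw' := mem_orbit_inv_smul (g := g) hw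
    obtain ⟨h1, h2, h3⟩ := h.all _ hw' hwB
    refine ⟨?_, ?_, ?_⟩
    · rw [hf g x hx, ← h1, ← hf g _ hw', smul_inv_smul]
    · intro a ha
      obtain ⟨b, hb, rfl⟩ := mem_cjB.1 ha
      have := hQ g _ hw' b (h2 hb)
      rwa [smul_inv_smul] at this
    · intro a ha
      have ha' : g⁻¹ * a * g ∈ Q (g⁻¹ • w) := by
        have := hQ g⁻¹ w hw a ha
        rwa [inv_inv] at this
      have h4 := mem_normalizer_iff.1 (h3 ha')
      rw [mem_normalizer_iff]
      intro b
      have key : ∀ c : Y, c ∈ cjB g B ↔ g⁻¹ * c * g ∈ B := by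
        intro c
        rw [mem_cjB]
        constructor
        · rintro ⟨b, hb, rfl⟩
          have e : g⁻¹ * (g * b * g⁻¹) * g = b := by group
          rwa [e]
        · intro hc
          exact ⟨_, hc, by group⟩
      rw [key, key]
      have h5 := h4 (g⁻¹ * b * g)
      rw [h5]
      have e : g⁻¹ * a * g * (g⁻¹ * b * g) * (g⁻¹ * a * g)⁻¹ = g⁻¹ * (a * b * a⁻¹) * g := by group
      rw [e]

/-- The datum from one good `B`. -/
theorem dat_of {T : Sylow 2 Y} {M : Subgroup Y} (faith : Faith Y V) (le : (T : Subgroup Y) ≤ M) (ne : M ≠ ⊤)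
    (max : ∀ X : Subgroup Y, (T : Subgroup Y) ≤ X → X ≤ M ∨ X = ⊤) (z_ne : z ≠ 0)
    (z_fix : Fx (T : Subgroup Y) z) (fixT : ∀ v : V, Fx (T : Subgroup Y) v → v = 0 ∨ v = z)
    (span : Submodule.span (ZMod 2) (Set.range fun g : Y => g • z) = ⊤)
    (noff : ∀ A : Subgroup Y, A ≠ ⊥ → (∀ a ∈ A, ∀ b ∈ A, a * b = b * a) → (∀ a ∈ A, a * a = 1) →
      Nat.card A * Nat.card {v : V // Fx A v} < Nat.card V)
    (f_smul : ∀ (g : Y) (x : V), x ∈ orbit Y z → f (g • x) = dua g (f x)) (f_self : f z z = 0) (f_ne : f z ≠ 0)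
    (q_smul : ∀ (g : Y) (x : V), x ∈ orbit Y z → ∀ a ∈ Q x, g * a * g⁻¹ ∈ Q (g • x))
    (q_two : IsPGroup 2 (Q z)) (q_fix : Fx (Q z) z) {B : Subgroup Y} (hB : Gd z f Q z B) :
    Dat T M z f Q fun x => {B | Gd z f Q x B} where
  faith := faith
  le := le
  ne := ne
  max := max
  z_ne := z_ne
  z_fix := z_fix
  fixT := fixT
  span := span
  noff := noff
  f_smul := f_smul
  f_self := f_self
  f_ne := f_ne
  q_smul := q_smul
  q_two := q_two
  q_fix := q_fix
  bb_smul g _ hx _ hB := Gd.smul f_smul q_smul hx hB g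
  bb_ne := ⟨B, hB⟩
  bb_le _ hB := (hB.all z (mem_orbit_self z) hB.fx).2.1
  bb_norm _ hB a ha b hb := (mem_normalizer_iff.1 ((hB.all z (mem_orbit_self z) hB.fx).2.2 ha) b).1 hb
  bb _ hB := hB.nb
  star _ hB x hx hBx := (hB.all x hx hBx).1

end Cfsg.Agent.Omega.NearFF

end

end

-- merged: Cfsg.Agent.Mrg.Omega.NO1.Types
section

section


/-!
# The types of `V_P` in the leaf N1 (= NO-1', project OMEGA)

`V = V_P`, `Z = Ω₁(Z(S))`.  The types of the pair `(P/C_P(V), V)` (conclusion of the near-FF theorem (BT)):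

* `Minus2 S P z` : `V = O₄⁻(2)`, five singular vectors `z i`, `Z = ⟨z 0⟩`, `P` induces at least `A₅` on them;
* `Plus2 S P z` : `V = O₄⁺(2) = N₁ ⊗ N₂`, nine singular vectors `z i j` (rows and columns are lines),
  `Z = ⟨z 0 0⟩`, `P` induces `S₃ ≀ 2`;
* `Nat4 S P` : `V = F₄²` is the natural module of a normal subgroup `SL₂(4)`, `|Z| = 2`, `|V/E| = 2`;
* `MinusQ K σ P V` : `V = O₄⁻(q)` = the hermitian `2 × 2`-matrices over `K`, `|K| = q²`;
* `PlusQ F P V` : `V = O₄⁺(q)` = `M₂(F)` = `N ⊗ N'`, the two factors `SL₂(F)` are interchanged by `P` (and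
  `|V/E| ≥ 4`).
-/

set_option autoImplicit false
set_option linter.unusedSectionVars false

namespace Cfsg.Agent.Omega.NO1

open Subgroup Cfsg Cfsg.Agent.ZN Cfsg.Agent.Omega.MinPar Cfsg.Agent.Omega.Frame
open Cfsg.Agent.Omega.FrameFF (NatOver)

universe u

section defs

variable {G : Type u} [Group G]

/-- **(β), `q = 2`**: `V = O₄⁻(2)`, the singular vectors are `z 0, …, z 4`. -/
structure Minus2 (S P : Subgroup G) (z : Fin 5 → G) : Prop where
  inj : Function.Injective z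
  ne_one : ∀ i, z i ≠ 1
  sq : ∀ i, z i * z i = 1
  comm : ∀ i j, z i * z j = z j * z i
  prod : z 0 * z 1 * z 2 * z 3 * z 4 = 1
  gen : _root_.Subgroup.closure (Set.range z) = zl S P
  Z : zc S = zpowers (z 0)
  perm : ∀ m ∈ P, ∃ σ : Equiv.Perm (Fin 5), ∀ i, m * z i * m⁻¹ = z (σ i)
  alt : ∀ σ ∈ alternatingGroup (Fin 5), ∃ m ∈ P, ∀ i, m * z i * m⁻¹ = z (σ i)

/-- **(γ), `q = 2`**: `V = O₄⁺(2) = N₁ ⊗ N₂`, the singular vectors are `z i j`. -/
structure Plus2 (S P : Subgroup G) (z : Fin 3 → Fin 3 → G) : Prop where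
  inj : ∀ i j k l, z i j = z k l → i = k ∧ j = l
  ne_one : ∀ i j, z i j ≠ 1
  sq : ∀ i j, z i j * z i j = 1
  comm : ∀ i j k l, z i j * z k l = z k l * z i j
  row : ∀ i, z i 0 * z i 1 * z i 2 = 1
  col : ∀ j, z 0 j * z 1 j * z 2 j = 1
  gen : _root_.Subgroup.closure (Set.range fun x : Fin 3 × Fin 3 => z x.1 x.2) = zl S P
  Z : zc S = zpowers (z 0 0)
  perm : ∀ m ∈ P, ∃ σ τ : Equiv.Perm (Fin 3), (∀ i j, m * z i j * m⁻¹ = z (σ i) (τ j)) ∨
    (∀ i j, m * z i j * m⁻¹ = z (σ j) (τ i))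
  full : ∀ σ τ : Equiv.Perm (Fin 3), ∃ m ∈ P, ∀ i j, m * z i j * m⁻¹ = z (σ i) (τ j)
  swap : ∃ m ∈ P, ∀ i j, m * z i j * m⁻¹ = z j i

/-- The subgroup `E = V ∩ Q`, `Q = O₂(C_G(Z))`. -/
abbrev EE (S P : Subgroup G) : Subgroup G := zl S P ⊓ o2 (NoFF.LinesPlug.CC S)

/-- **(α)**: `V = F₄²` is the natural `SL₂(4)`-module, `|Z| = 2` (so `S` contains a field automorphism) and
`|V / E| = 2`. -/
structure Nat4 (S P : Subgroup G) : Prop where
  nat : ∃ (F : Type) (_ : Field F) (_ : Finite F) (_ : CharP F 2), Nat.card F = 4 ∧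
    Nonempty (NatOver F P (zl S P) ⊥)
  Z : Nat.card (zc S) = 2
  ind : (EE S P).relIndex (zl S P) = 2

/-- **(β)**: `V = O₄⁻(q)`, the hermitian `2 × 2`-matrices over `K`, `σ` an automorphism of order 2 of `K`,
`|K| = q²`; `SL₂(K)` acts by `X ↦ A X A^*` (a normal subgroup of the group induced by `N`). -/
structure MinusQ (K : Type) [Field K] (σ : K ≃+* K) (N V : Subgroup G) where
  e : G → Matrix (Fin 2) (Fin 2) K
  herm : ∀ v ∈ V, ((e v).map σ).transpose = e v
  mul : ∀ v ∈ V, ∀ w ∈ V, e (v * w) = e v + e w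
  surj : ∀ X : Matrix (Fin 2) (Fin 2) K, (X.map σ).transpose = X → ∃ v ∈ V, e v = X
  ker : ∀ v ∈ V, e v = 0 → v = 1
  lift : ∀ A : Matrix.SpecialLinearGroup (Fin 2) K, ∃ g ∈ N, ∀ v ∈ V,
    e (g * v * g⁻¹) = A.1 * e v * (A.1.map σ).transpose
  norm : ∀ g ∈ N, ∀ h ∈ N, ∀ A : Matrix.SpecialLinearGroup (Fin 2) K,
    (∀ v ∈ V, e (h * v * h⁻¹) = A.1 * e v * (A.1.map σ).transpose) →
      ∃ B : Matrix.SpecialLinearGroup (Fin 2) K,
        ∀ v ∈ V, e (g * h * g⁻¹ * v * (g * h * g⁻¹)⁻¹) = B.1 * e v * (B.1.map σ).transpose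

/-- **(γ)**: `V = O₄⁺(q) = M₂(F)`, `SL₂(F) × SL₂(F)` acts by `X ↦ A X Bᵀ` (a normal subgroup of the group
induced by `N`), and `N` interchanges the two factors. -/
structure PlusQ (F : Type) [Field F] (N V : Subgroup G) where
  e : G → Matrix (Fin 2) (Fin 2) F
  mul : ∀ v ∈ V, ∀ w ∈ V, e (v * w) = e v + e w
  surj : ∀ X : Matrix (Fin 2) (Fin 2) F, ∃ v ∈ V, e v = X
  ker : ∀ v ∈ V, e v = 0 → v = 1
  lift : ∀ A B : Matrix.SpecialLinearGroup (Fin 2) F, ∃ g ∈ N, ∀ v ∈ V,
    e (g * v * g⁻¹) = A.1 * e v * B.1.transpose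
  norm : ∀ g ∈ N, ∀ h ∈ N, ∀ A B : Matrix.SpecialLinearGroup (Fin 2) F,
    (∀ v ∈ V, e (h * v * h⁻¹) = A.1 * e v * B.1.transpose) →
      ∃ A' B' : Matrix.SpecialLinearGroup (Fin 2) F,
        ∀ v ∈ V, e (g * h * g⁻¹ * v * (g * h * g⁻¹)⁻¹) = A'.1 * e v * B'.1.transpose
  swap : ∃ s ∈ N, ∀ h ∈ N, ∀ A : Matrix.SpecialLinearGroup (Fin 2) F,
    (∀ v ∈ V, e (h * v * h⁻¹) = A.1 * e v) →
      ∃ B : Matrix.SpecialLinearGroup (Fin 2) F,
        ∀ v ∈ V, e (s * h * s⁻¹ * v * (s * h * s⁻¹)⁻¹) = e v * B.1.transpose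

/-- The five types. -/
inductive Ty (S P : Subgroup G) : Prop
  | minus2 (z : Fin 5 → G) (h : Minus2 S P z)
  | plus2 (z : Fin 3 → Fin 3 → G) (h : Plus2 S P z)
  | nat4 (h : Nat4 S P)
  | minusQ (K : Type) [Field K] [Finite K] [CharP K 2] (σ : K ≃+* K) (h1 : σ ≠ RingEquiv.refl K)
      (h2 : ∀ x, σ (σ x) = x) (h4 : 16 ≤ Nat.card K) (h : Nonempty (MinusQ K σ P (zl S P)))
  | plusQ (F : Type) [Field F] [Finite F] [CharP F 2] (h4 : 4 ≤ Nat.card F)
      (hE : 4 ≤ (EE S P).relIndex (zl S P)) (h : Nonempty (PlusQ F P (zl S P)))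

end defs

end Cfsg.Agent.Omega.NO1

end

section


/-!
# THEOREM ALL-N1: the types `Minus2` and `Plus2` do not coexist with `Core` (bb #16847 (4), helper983)

* `Core.not_minus2`, `Core.not_plus2`.
-/

set_option autoImplicit false
set_option linter.unusedSectionVars false

namespace Cfsg.Agent.Omega.All.NOne

open Subgroup Cfsg Cfsg.Agent.ZN Cfsg.Agent.Omega.MinPar
open Cfsg.Agent.Omega.FrameNOFF (CZ)
open SmallFour (mm ad sc ac Ind)

universe u

variable {G : Type u} [Group G]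

/-- abstract form of the final step -/
theorem four_of {R : Subgroup G} (hR : Nat.card R = 4) {z : Fin 4 → G} (D : Ind z) {s a : Fin 4 → Bool}
    (hs : mm z s ∈ R) (ha : mm z a ∈ R) (hs0 : s ≠ fun _ => false) (ha0 : a ≠ fun _ => false) (has : a ≠ s)
    {g : G} {M : Fin 4 → Fin 4 → Bool} (hg : ∀ i, g * z i * g⁻¹ = mm z (M i))
    {b : Fin 4 → Bool} (hgR : g * mm z b * g⁻¹ ∈ R) :
    ac M b = (fun _ => false) ∨ ac M b = s ∨ ac M b = a ∨ ac M b = ad a s := by
  rw [D.conj hg] at hgR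
  have h1 : ∀ b, mm z b = 1 → b = fun _ => false := D.ind
  rcases mem_of_card_four hR hs ha (fun h => hs0 (D.ind _ h)) (fun h => ha0 (D.ind _ h))
    (fun h => has (D.inj h)) (D.mm_sq s) hgR with h | h | h | h
  · exact Or.inl (D.ind _ h)
  · exact Or.inr (Or.inl (D.inj h))
  · exact Or.inr (Or.inr (Or.inl (D.inj h)))
  · rw [D.mm_mul] at h
    exact Or.inr (Or.inr (Or.inr (D.inj h)))

/-! ### `Minus2` -/

section minus

variable {S P : Subgroup G} {z : Fin 5 → G} (m : NO1.Minus2 S P z)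
include m

theorem minus_zero : z 0 = z 1 * z 2 * z 3 * z 4 := by
  have h1 := m.prod
  have h2 : z 0 * (z 1 * z 2 * z 3 * z 4) = 1 := by rw [← h1]; group
  calc z 0 = z 0 * (z 1 * z 2 * z 3 * z 4) * (z 1 * z 2 * z 3 * z 4)⁻¹ := by group
    _ = (z 1 * z 2 * z 3 * z 4)⁻¹ := by rw [h2, one_mul]
    _ = z 4 * z 3 * z 2 * z 1 := by
        rw [mul_inv_rev, mul_inv_rev, mul_inv_rev, inv_eq_of_mul_eq_one_left (m.sq 1),
          inv_eq_of_mul_eq_one_left (m.sq 2), inv_eq_of_mul_eq_one_left (m.sq 3),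
          inv_eq_of_mul_eq_one_left (m.sq 4)]
        group
    _ = z 1 * (z 4 * z 3 * z 2) := by
        rw [show z 4 * z 3 * z 2 * z 1 = z 4 * z 3 * (z 2 * z 1) by group, m.comm 2 1,
          show z 4 * z 3 * (z 1 * z 2) = z 4 * (z 3 * z 1) * z 2 by group, m.comm 3 1,
          show z 4 * (z 1 * z 3) * z 2 = (z 4 * z 1) * z 3 * z 2 by group, m.comm 4 1]
        group
    _ = z 1 * (z 2 * (z 4 * z 3)) := by
        rw [show z 4 * z 3 * z 2 = z 4 * (z 3 * z 2) by group, m.comm 3 2,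
          show z 4 * (z 2 * z 3) = (z 4 * z 2) * z 3 by group, m.comm 4 2]
        group
    _ = z 1 * z 2 * z 3 * z 4 := by rw [m.comm 4 3]; group

theorem minus_mm : z 0 = mm ![z 1, z 2, z 3, z 4] (fun _ => true) := by
  rw [minus_zero m]; simp [mm]

theorem minus_ind : Ind ![z 1, z 2, z 3, z 4] := by
  have hne : ∀ i j : Fin 5, i ≠ j → z i * z j ≠ 1 := by
    intro i j hij h
    apply hij
    apply m.inj
    calc z i = z i * (z j * z j) := by rw [m.sq, mul_one]
      _ = z i * z j * z j := by group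
      _ = z j := by rw [h, one_mul]
  have h0 := minus_zero m
  have h3 : ∀ {x y : G}, z 0 = x * y → y = 1 → z 0 = x := by
    intro x y h1 h2
    rw [h1, h2, mul_one]
  refine ⟨?_, ?_, ?_⟩
  · intro i j
    fin_cases i <;> fin_cases j <;> exact m.comm _ _
  · intro i
    fin_cases i <;> exact m.sq _
  · intro a ha
    have hc := m.comm
    simp only [mm, Matrix.cons_val_zero, Matrix.cons_val_one, Matrix.cons_val] at ha
    have e123 : z 0 = z 4 * (z 1 * z 2 * z 3) := by
      rw [h0, show z 4 * (z 1 * z 2 * z 3) = (z 4 * z 1) * z 2 * z 3 by group, hc 4 1,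
        show z 1 * z 4 * z 2 * z 3 = z 1 * (z 4 * z 2) * z 3 by group, hc 4 2,
        show z 1 * (z 2 * z 4) * z 3 = z 1 * z 2 * (z 4 * z 3) by group, hc 4 3]
      group
    have e124 : z 0 = z 3 * (z 1 * z 2 * z 4) := by
      rw [h0, show z 3 * (z 1 * z 2 * z 4) = (z 3 * z 1) * z 2 * z 4 by group, hc 3 1,
        show z 1 * z 3 * z 2 * z 4 = z 1 * (z 3 * z 2) * z 4 by group, hc 3 2]
      group
    have e134 : z 0 = z 2 * (z 1 * z 3 * z 4) := by
      rw [h0, show z 2 * (z 1 * z 3 * z 4) = (z 2 * z 1) * z 3 * z 4 by group, hc 2 1]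
    have e234 : z 0 = z 1 * (z 2 * z 3 * z 4) := by
      rw [h0]; group
    have key : ∀ i : Fin 5, i ≠ 0 → z 0 ≠ z i := fun i hi h => hi (m.inj h).symm
    funext i
    rcases h_0 : a 0 with _ | _ <;> rcases h_1 : a 1 with _ | _ <;> rcases h_2 : a 2 with _ | _ <;>
      rcases h_3 : a 3 with _ | _ <;> rw [h_0, h_1, h_2, h_3] at ha <;>
      simp only [cond_true, cond_false, one_mul, mul_one] at ha
    · fin_cases i <;> assumption
    · exact absurd ha (m.ne_one 4)
    · exact absurd ha (m.ne_one 3)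
    · exact absurd ha (hne 3 4 (by decide))
    · exact absurd ha (m.ne_one 2)
    · exact absurd ha (hne 2 4 (by decide))
    · exact absurd ha (hne 2 3 (by decide))
    · exact absurd (h3 e234 ha) (key 1 (by decide))
    · exact absurd ha (m.ne_one 1)
    · exact absurd ha (hne 1 4 (by decide))
    · exact absurd ha (hne 1 3 (by decide))
    · exact absurd (h3 e134 ha) (key 2 (by decide))
    · exact absurd ha (hne 1 2 (by decide))
    · exact absurd (h3 e124 ha) (key 3 (by decide))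
    · exact absurd (h3 e123 ha) (key 4 (by decide))
    · exact absurd (h0.trans ha) (m.ne_one 0)

theorem minus_le {x : G} (hx : x ∈ zl S P) : ∃ a, x = mm ![z 1, z 2, z 3, z 4] a := by
  have D := minus_ind m
  apply D.exists_mm
  rw [← m.gen] at hx
  have h1 : _root_.Subgroup.closure (Set.range z) ≤ closure (Set.range ![z 1, z 2, z 3, z 4]) := by
    rw [closure_le]
    rintro _ ⟨i, rfl⟩
    have h2 : ∀ i : Fin 4, ![z 1, z 2, z 3, z 4] i ∈ closure (Set.range ![z 1, z 2, z 3, z 4]) := fun i =>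
      subset_closure ⟨i, rfl⟩
    fin_cases i
    · change z 0 ∈ _
      rw [minus_zero m]
      exact mul_mem (mul_mem (mul_mem (h2 0) (h2 1)) (h2 2)) (h2 3)
    · exact h2 0
    · exact h2 1
    · exact h2 2
    · exact h2 3
  exact h1 hx

theorem minus_mem (a : Fin 4 → Bool) : mm ![z 1, z 2, z 3, z 4] a ∈ zl S P := by
  have h1 : ∀ i, z i ∈ zl S P := fun i => by
    rw [← m.gen]; exact subset_closure ⟨i, rfl⟩
  have h2 : ∀ (i : Fin 5) (x : Bool), (bif x then z i else 1) ∈ zl S P := by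
    intro i x
    cases x
    · exact one_mem _
    · exact h1 i
  exact mul_mem (mul_mem (mul_mem (h2 1 _) (h2 2 _)) (h2 3 _)) (h2 4 _)

end minus

/-! ### `Plus2` -/

section plus

variable {S P : Subgroup G} {z : Fin 3 → Fin 3 → G} (m : NO1.Plus2 S P z)
include m

theorem plus_inv (i j : Fin 3) : (z i j)⁻¹ = z i j := inv_eq_of_mul_eq_one_left (m.sq i j)

theorem plus_row (i : Fin 3) : z i 2 = z i 0 * z i 1 := by
  have h1 := m.row i
  have h2 : z i 2 = (z i 0 * z i 1)⁻¹ := eq_inv_of_mul_eq_one_right h1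
  rw [h2, mul_inv_rev, plus_inv m, plus_inv m, m.comm]

theorem plus_col (j : Fin 3) : z 2 j = z 0 j * z 1 j := by
  have h1 := m.col j
  have h2 : z 2 j = (z 0 j * z 1 j)⁻¹ := eq_inv_of_mul_eq_one_right h1
  rw [h2, mul_inv_rev, plus_inv m, plus_inv m, m.comm]

theorem plus_ind : Ind ![z 0 0, z 0 1, z 1 0, z 1 1] := by
  have hne : ∀ i j k l : Fin 3, ¬ (i = k ∧ j = l) → z i j * z k l ≠ 1 := by
    intro i j k l hij h
    apply hij
    apply m.inj
    calc z i j = z i j * (z k l * z k l) := by rw [m.sq, mul_one]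
      _ = z i j * z k l * z k l := by group
      _ = z k l := by rw [h, one_mul]
  have r0 := plus_row m 0
  have r1 := plus_row m 1
  have c0 := plus_col m 0
  have c1 := plus_col m 1
  have c2 := plus_col m 2
  refine ⟨?_, ?_, ?_⟩
  · intro i j
    fin_cases i <;> fin_cases j <;> exact m.comm _ _ _ _
  · intro i
    fin_cases i <;> exact m.sq _ _
  · intro a ha
    have hc := m.comm
    simp only [mm, Matrix.cons_val_zero, Matrix.cons_val_one, Matrix.cons_val] at ha
    funext i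
    rcases h_0 : a 0 with _ | _ <;> rcases h_1 : a 1 with _ | _ <;> rcases h_2 : a 2 with _ | _ <;>
      rcases h_3 : a 3 with _ | _ <;> rw [h_0, h_1, h_2, h_3] at ha <;>
      simp only [cond_true, cond_false, one_mul, mul_one] at ha
    · fin_cases i <;> assumption
    · exact absurd ha (m.ne_one 1 1)
    · exact absurd ha (m.ne_one 1 0)
    · exact absurd ha (hne 1 0 1 1 (by decide))
    · exact absurd ha (m.ne_one 0 1)
    · exact absurd ha (hne 0 1 1 1 (by decide))
    · exact absurd ha (hne 0 1 1 0 (by decide))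
    · rw [mul_assoc, ← r1] at ha
      exact absurd ha (hne 0 1 1 2 (by decide))
    · exact absurd ha (m.ne_one 0 0)
    · exact absurd ha (hne 0 0 1 1 (by decide))
    · exact absurd ha (hne 0 0 1 0 (by decide))
    · rw [mul_assoc, ← r1] at ha
      exact absurd ha (hne 0 0 1 2 (by decide))
    · exact absurd ha (hne 0 0 0 1 (by decide))
    · rw [← r0] at ha
      exact absurd ha (hne 0 2 1 1 (by decide))
    · rw [← r0] at ha
      exact absurd ha (hne 0 2 1 0 (by decide))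
    · rw [mul_assoc, ← r0, ← r1, ← c2] at ha
      exact absurd ha (m.ne_one 2 2)

theorem plus_le {x : G} (hx : x ∈ zl S P) : ∃ a, x = mm ![z 0 0, z 0 1, z 1 0, z 1 1] a := by
  have D := plus_ind m
  apply D.exists_mm
  rw [← m.gen] at hx
  have h1 : _root_.Subgroup.closure (Set.range fun x : Fin 3 × Fin 3 => z x.1 x.2) ≤
      closure (Set.range ![z 0 0, z 0 1, z 1 0, z 1 1]) := by
    rw [closure_le]
    rintro _ ⟨⟨i, j⟩, rfl⟩
    have h2 : ∀ i : Fin 4, ![z 0 0, z 0 1, z 1 0, z 1 1] i ∈ closure (Set.range ![z 0 0, z 0 1, z 1 0, z 1 1]) :=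
      fun i => subset_closure ⟨i, rfl⟩
    have k00 : z 0 0 ∈ closure (Set.range ![z 0 0, z 0 1, z 1 0, z 1 1]) := h2 0
    have k01 : z 0 1 ∈ closure (Set.range ![z 0 0, z 0 1, z 1 0, z 1 1]) := h2 1
    have k10 : z 1 0 ∈ closure (Set.range ![z 0 0, z 0 1, z 1 0, z 1 1]) := h2 2
    have k11 : z 1 1 ∈ closure (Set.range ![z 0 0, z 0 1, z 1 0, z 1 1]) := h2 3
    have k02 : z 0 2 ∈ closure (Set.range ![z 0 0, z 0 1, z 1 0, z 1 1]) := by
      rw [plus_row m]; exact mul_mem k00 k01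
    have k12 : z 1 2 ∈ closure (Set.range ![z 0 0, z 0 1, z 1 0, z 1 1]) := by
      rw [plus_row m]; exact mul_mem k10 k11
    have k2 : ∀ j, z 0 j ∈ closure (Set.range ![z 0 0, z 0 1, z 1 0, z 1 1]) →
        z 1 j ∈ closure (Set.range ![z 0 0, z 0 1, z 1 0, z 1 1]) →
        z 2 j ∈ closure (Set.range ![z 0 0, z 0 1, z 1 0, z 1 1]) := by
      intro j a b
      rw [plus_col m]; exact mul_mem a b
    change z i j ∈ _
    fin_cases i <;> fin_cases j
    · exact k00
    · exact k01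
    · exact k02
    · exact k10
    · exact k11
    · exact k12
    · exact k2 0 k00 k10
    · exact k2 1 k01 k11
    · exact k2 2 k02 k12
  exact h1 hx

theorem plus_mem (a : Fin 4 → Bool) : mm ![z 0 0, z 0 1, z 1 0, z 1 1] a ∈ zl S P := by
  have h1 : ∀ i j, z i j ∈ zl S P := fun i j => by
    rw [← m.gen]; exact subset_closure ⟨(i, j), rfl⟩
  have h2 : ∀ (i j : Fin 3) (x : Bool), (bif x then z i j else 1) ∈ zl S P := by
    intro i j x
    cases x
    · exact one_mem _
    · exact h1 i j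
  exact mul_mem (mul_mem (mul_mem (h2 0 0 _) (h2 0 1 _)) (h2 1 0 _)) (h2 1 1 _)

end plus

/-- the group of all `mm z a` has order 16 -/
theorem card_of_mm {W : Subgroup G} {z : Fin 4 → G} (D : Ind z) (h1 : ∀ a, mm z a ∈ W)
    (h2 : ∀ x ∈ W, ∃ a, x = mm z a) : Nat.card W = 16 := by
  let f : (Fin 4 → Bool) → W := fun a => ⟨mm z a, h1 a⟩
  have hf : Function.Bijective f := by
    constructor
    · intro a b hab
      exact D.inj (congrArg Subtype.val hab)
    · rintro ⟨x, hx⟩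
      obtain ⟨a, rfl⟩ := h2 x hx
      exact ⟨a, rfl⟩
  rw [← Nat.card_congr (Equiv.ofBijective f hf)]
  simp

/-- an element of `R` outside `{1, z}` -/
theorem exists_of_card {R : Subgroup G} (hR : Nat.card R = 4) (z : G) : ∃ x ∈ R, x ≠ 1 ∧ x ≠ z := by
  classical
  by_contra hcon
  push Not at hcon
  have h3 : Nat.card R ≤ Nat.card Bool := by
    apply Nat.card_le_card_of_injective (fun x : R => decide ((x : G) = 1))
    rintro ⟨x, hx⟩ ⟨y, hy⟩ hxy
    have h4 : (x = 1 ↔ y = 1) := by simpa using hxy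
    apply Subtype.ext
    change x = y
    by_cases h5 : x = 1
    · rw [h5, h4.1 h5]
    · rw [hcon x hx h5, hcon y hy (fun h6 => h5 (h4.2 h6))]
  rw [hR, Nat.card_eq_fintype_card, Fintype.card_bool] at h3
  omega

namespace Core

variable {F T : Type*} [Field F] [AddCommGroup T] [Module F T]
  {V R Q X : Subgroup G} {e : F → T → F → G} {N : T → F} {B : T → T → F}

variable [Finite G] (S : Sylow 2 G) (h : Core (S : Subgroup G) V R Q X e N B) (hG : IsCharacteristicTwoType G)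
  (hZ : zc (S : Subgroup G) ≠ ⊥)

omit [Finite G] in
theorem S_le_norm_zl {P : Subgroup G} (hP : IsParS (S : Subgroup G) P) :
    (S : Subgroup G) ≤ normalizer (zl (S : Subgroup G) P : Set G) := hP.isLoc.le.trans (le_normalizer_zl _ _)

include hG in
theorem zl_le_S {P : Subgroup G} (hP : IsParS (S : Subgroup G) P) : zl (S : Subgroup G) P ≤ (S : Subgroup G) :=
  (hP.isLoc.zl_le S hG).trans ((zc_le _).trans (hP.isLoc.o2_le S))

include h hG hZ

/-- common part of `not_minus2`, `not_plus2` -/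
theorem small_step {P : Subgroup G} (hP : IsParS (S : Subgroup G) P) (hPQ : ¬ zl (S : Subgroup G) P ≤ Q)
    {z : Fin 4 → G} (D : Ind z) (h1 : ∀ a, mm z a ∈ zl (S : Subgroup G) P)
    (h2 : ∀ x ∈ zl (S : Subgroup G) P, ∃ a, x = mm z a) {s : Fin 4 → Bool} (hs : mm z s ∈ zc (S : Subgroup G))
    (hs0 : s ≠ fun _ => false) :
    ∃ a, a ≠ (fun _ => false) ∧ a ≠ s ∧ mm z a ∈ R ∧ Nat.card R = 4 ∧ mm z s ∈ R := by
  have hSW := S_le_norm_zl S hP
  have hWS := zl_le_S S hG hP
  have h3 := card_of_mm D h1 h2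
  have h4 := h.card_R_of S hG hZ hWS hSW hPQ h3
  obtain ⟨h5, -⟩ := h.R_le_of S hG hZ hWS hSW hPQ
  obtain ⟨x, hx, hx1, hx2⟩ := exists_of_card h4 (mm z s)
  obtain ⟨a, rfl⟩ := h2 x (h5 hx)
  refine ⟨a, ?_, ?_, hx, h4, h.Z_R hs⟩
  · rintro rfl
    exact hx1 Ind.mm_zero
  · rintro rfl
    exact hx2 rfl

/-- **`Minus2` is impossible.** -/
theorem not_minus2 {P : Subgroup G} (hP : IsParS (S : Subgroup G) P) {z : Fin 5 → G}
    (m : NO1.Minus2 (S : Subgroup G) P z) (hPQ : ¬ zl (S : Subgroup G) P ≤ Q) : False := by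
  have D := minus_ind m
  have hz0 : mm ![z 1, z 2, z 3, z 4] (fun _ => true) ∈ zc (S : Subgroup G) := by
    rw [← minus_mm m, m.Z]; exact mem_zpowers _
  obtain ⟨a, ha0, has, haR, hR4, hsR⟩ := h.small_step S hG hZ hP hPQ D (minus_mem m) (fun x hx => minus_le m hx)
    hz0 (by decide)
  have hst : ∀ {g : G}, g * z 0 * g⁻¹ = z 0 → ∀ x ∈ R, g * x * g⁻¹ ∈ R := by
    intro g hg x hx
    have h1 : z 0 ∈ R := by rw [minus_mm m]; exact hsR
    exact h.R_nor (h.ti S hG hZ h1 (m.ne_one 0) (by rw [hg]; exact h1)) hx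
  obtain ⟨g, -, hg⟩ := m.alt c[1, 2, 3] (by rw [Equiv.Perm.mem_alternatingGroup]; decide)
  obtain ⟨k, -, hk⟩ := m.alt c[2, 3, 4] (by rw [Equiv.Perm.mem_alternatingGroup]; decide)
  have hgz : ∀ i : Fin 4, g * ![z 1, z 2, z 3, z 4] i * g⁻¹ = mm ![z 1, z 2, z 3, z 4]
      (![![false, true, false, false], ![false, false, true, false], ![true, false, false, false],
        ![false, false, false, true]] i) := by
    have e1 : (c[1, 2, 3] : Equiv.Perm (Fin 5)) 1 = 2 := by decide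
    have e2 : (c[1, 2, 3] : Equiv.Perm (Fin 5)) 2 = 3 := by decide
    have e3 : (c[1, 2, 3] : Equiv.Perm (Fin 5)) 3 = 1 := by decide
    have e4 : (c[1, 2, 3] : Equiv.Perm (Fin 5)) 4 = 4 := by decide
    intro i
    fin_cases i
    · refine (hg 1).trans ?_
      rw [e1]; simp [mm]
    · refine (hg 2).trans ?_
      rw [e2]; simp [mm]
    · refine (hg 3).trans ?_
      rw [e3]; simp [mm]
    · refine (hg 4).trans ?_
      rw [e4]; simp [mm]
  have hkz : ∀ i : Fin 4, k * ![z 1, z 2, z 3, z 4] i * k⁻¹ = mm ![z 1, z 2, z 3, z 4]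
      (![![true, false, false, false], ![false, false, true, false], ![false, false, false, true],
        ![false, true, false, false]] i) := by
    have e1 : (c[2, 3, 4] : Equiv.Perm (Fin 5)) 1 = 1 := by decide
    have e2 : (c[2, 3, 4] : Equiv.Perm (Fin 5)) 2 = 3 := by decide
    have e3 : (c[2, 3, 4] : Equiv.Perm (Fin 5)) 3 = 4 := by decide
    have e4 : (c[2, 3, 4] : Equiv.Perm (Fin 5)) 4 = 2 := by decide
    intro i
    fin_cases i
    · refine (hk 1).trans ?_
      rw [e1]; simp [mm]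
    · refine (hk 2).trans ?_
      rw [e2]; simp [mm]
    · refine (hk 3).trans ?_
      rw [e3]; simp [mm]
    · refine (hk 4).trans ?_
      rw [e4]; simp [mm]
  have e0 : (c[1, 2, 3] : Equiv.Perm (Fin 5)) 0 = 0 := by decide
  have e0' : (c[2, 3, 4] : Equiv.Perm (Fin 5)) 0 = 0 := by decide
  have hg0 : g * z 0 * g⁻¹ = z 0 := by rw [hg, e0]
  have hk0 : k * z 0 * k⁻¹ = z 0 := by rw [hk, e0']
  have f1 := four_of hR4 D hsR haR (by decide) ha0 has hgz (hst hg0 _ haR)
  have f2 := four_of hR4 D hsR haR (by decide) ha0 has hkz (hst hk0 _ haR)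
  clear hgz hkz haR
  revert a
  decide +kernel

/-- **`Plus2` is impossible.** -/
theorem not_plus2 {P : Subgroup G} (hP : IsParS (S : Subgroup G) P) {z : Fin 3 → Fin 3 → G}
    (m : NO1.Plus2 (S : Subgroup G) P z) (hPQ : ¬ zl (S : Subgroup G) P ≤ Q) : False := by
  have D := plus_ind m
  have hz00 : z 0 0 = mm ![z 0 0, z 0 1, z 1 0, z 1 1] ![true, false, false, false] := by simp [mm]
  have hz0 : mm ![z 0 0, z 0 1, z 1 0, z 1 1] ![true, false, false, false] ∈ zc (S : Subgroup G) := by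
    rw [← hz00, m.Z]; exact mem_zpowers _
  obtain ⟨a, ha0, has, haR, hR4, hsR⟩ := h.small_step S hG hZ hP hPQ D (plus_mem m) (fun x hx => plus_le m hx)
    hz0 (by decide)
  have h00R : z 0 0 ∈ R := by rw [hz00]; exact hsR
  have hst : ∀ {g y : G}, y ∈ R → y ≠ 1 → g * y * g⁻¹ = y → ∀ x ∈ R, g * x * g⁻¹ ∈ R := by
    intro g y hy hy1 hg x hx
    exact h.R_nor (h.ti S hG hZ hy hy1 (by rw [hg]; exact hy)) hx
  have s0 : (Equiv.swap 1 2 : Equiv.Perm (Fin 3)) 0 = 0 := by decide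
  have s1 : (Equiv.swap 1 2 : Equiv.Perm (Fin 3)) 1 = 2 := by decide
  obtain ⟨g, -, hg⟩ := m.full (Equiv.swap 1 2) 1
  obtain ⟨k, -, hk⟩ := m.full 1 (Equiv.swap 1 2)
  obtain ⟨w, -, hw⟩ := m.swap
  have hgz : ∀ i : Fin 4, g * ![z 0 0, z 0 1, z 1 0, z 1 1] i * g⁻¹ = mm ![z 0 0, z 0 1, z 1 0, z 1 1]
      (![![true, false, false, false], ![false, true, false, false], ![true, false, true, false],
        ![false, true, false, true]] i) := by
    intro i
    fin_cases i
    · refine (hg 0 0).trans ?_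
      rw [s0]; simp [mm]
    · refine (hg 0 1).trans ?_
      rw [s0]; simp [mm]
    · refine (hg 1 0).trans ?_
      rw [s1, Equiv.Perm.one_apply, plus_col m]; simp [mm]
    · refine (hg 1 1).trans ?_
      rw [s1, Equiv.Perm.one_apply, plus_col m]; simp [mm]
  have hkz : ∀ i : Fin 4, k * ![z 0 0, z 0 1, z 1 0, z 1 1] i * k⁻¹ = mm ![z 0 0, z 0 1, z 1 0, z 1 1]
      (![![true, false, false, false], ![true, true, false, false], ![false, false, true, false],
        ![false, false, true, true]] i) := by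
    intro i
    fin_cases i
    · refine (hk 0 0).trans ?_
      rw [s0]; simp [mm]
    · refine (hk 0 1).trans ?_
      rw [s1, Equiv.Perm.one_apply, plus_row m]; simp [mm]
    · refine (hk 1 0).trans ?_
      rw [s0]; simp [mm]
    · refine (hk 1 1).trans ?_
      rw [s1, Equiv.Perm.one_apply, plus_row m]; simp [mm]
  have hwz : ∀ i : Fin 4, w * ![z 0 0, z 0 1, z 1 0, z 1 1] i * w⁻¹ = mm ![z 0 0, z 0 1, z 1 0, z 1 1]
      (![![true, false, false, false], ![false, false, true, false], ![false, true, false, false],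
        ![false, false, false, true]] i) := by
    intro i
    fin_cases i
    · refine (hw 0 0).trans ?_
      simp [mm]
    · refine (hw 0 1).trans ?_
      simp [mm]
    · refine (hw 1 0).trans ?_
      simp [mm]
    · refine (hw 1 1).trans ?_
      simp [mm]
  have f1 := four_of hR4 D hsR haR (by decide) ha0 has hgz
    (hst h00R (m.ne_one 0 0) (by rw [hg, s0]; rfl) _ haR)
  have f2 := four_of hR4 D hsR haR (by decide) ha0 has hkz
    (hst h00R (m.ne_one 0 0) (by rw [hk, s0]; rfl) _ haR)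
  have f3 := four_of hR4 D hsR haR (by decide) ha0 has hwz
    (hst h00R (m.ne_one 0 0) (hw 0 0) _ haR)
  -- `z01 z10 ∈ R`
  have hc : mm ![z 0 0, z 0 1, z 1 0, z 1 1] ![false, true, true, false] ∈ R := by
    have h1 : a = ![false, true, true, false] ∨ a = ![true, true, true, false] := by
      clear hgz hkz hwz haR
      revert a
      decide +kernel
    rcases h1 with h1 | h1
    · rw [← h1]; exact haR
    · have h2 : ad a ![true, false, false, false] = ![false, true, true, false] := by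
        rw [h1]; decide
      rw [← h2, ← D.mm_mul]
      exact mul_mem haR hsR
  have hne : mm ![z 0 0, z 0 1, z 1 0, z 1 1] ![false, true, true, false] ≠ 1 := by
    intro h1
    exact absurd (D.ind _ h1) (by decide)
  -- the element exchanging `z00` and `z11`
  have t0 : (Equiv.swap 0 1 : Equiv.Perm (Fin 3)) 0 = 1 := by decide
  have t1 : (Equiv.swap 0 1 : Equiv.Perm (Fin 3)) 1 = 0 := by decide
  obtain ⟨n, -, hn⟩ := m.full (Equiv.swap 0 1) (Equiv.swap 0 1)
  have hnz : ∀ i : Fin 4, n * ![z 0 0, z 0 1, z 1 0, z 1 1] i * n⁻¹ = mm ![z 0 0, z 0 1, z 1 0, z 1 1]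
      (![![false, false, false, true], ![false, false, true, false], ![false, true, false, false],
        ![true, false, false, false]] i) := by
    intro i
    fin_cases i
    · refine (hn 0 0).trans ?_
      rw [t0]; simp [mm]
    · refine (hn 0 1).trans ?_
      rw [t0, t1]; simp [mm]
    · refine (hn 1 0).trans ?_
      rw [t0, t1]; simp [mm]
    · refine (hn 1 1).trans ?_
      rw [t1]; simp [mm]
  have hnc : n * mm ![z 0 0, z 0 1, z 1 0, z 1 1] ![false, true, true, false] * n⁻¹ =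
      mm ![z 0 0, z 0 1, z 1 0, z 1 1] ![false, true, true, false] := by
    rw [D.conj hnz]
    congr 1
    decide
  have f4 := four_of hR4 D hsR hc (by decide) (by decide) (by decide) hnz (hst hc hne hnc _ hsR)
  revert f4
  decide

end Core

end Cfsg.Agent.Omega.All.NOne

end

section


/-!
# THEOREM ALL-N1: the type `Nat4` does not coexist with `Core` (bb #16847 (4), helper983, helper940)

`V' = zl S P = F₄²`, `V' ≰ Q`: the transvections of `SL₂(4)` fixing `Z` normalise `R` (TI), so `R` is the `F₄`-point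
of `Z`; the torus normalises `R`, `Q` and `V' ∩ Q`, so `V' ≤ Q`.
-/

set_option autoImplicit false
set_option linter.unusedSectionVars false

namespace Cfsg.Agent.Omega.All.NOne

open Subgroup Cfsg Cfsg.Agent.ZN Cfsg.Agent.Omega.MinPar
open Cfsg.Agent.Omega.FrameFF (NatOver)
open Cfsg.Agent.Omega.NatPair (ap dt dt_add dt_smul exists_smul_of_dt exists_comb)

universe u

variable {G : Type u} [Group G]

/-- `NatOver`, `D = 1`: `e` is injective on `V`. -/
theorem natOver_inj {F : Type} [Field F] {N V : Subgroup G} (M : NatOver F N V ⊥) {v w : G} (hv : v ∈ V)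
    (hw : w ∈ V) (h : M.e v = M.e w) : v = w := by
  have h1 : M.e 1 = 0 := (M.ker 1 (one_mem V)).2 (one_mem _)
  have h2 : M.e w + M.e w⁻¹ = 0 := by
    rw [← M.mul w hw _ (inv_mem hw), mul_inv_cancel, h1]
  have h3 : M.e (v * w⁻¹) = 0 := by
    rw [M.mul v hv _ (inv_mem hw), h, h2]
  have h4 := (M.ker _ (mul_mem hv (inv_mem hw))).1 h3
  rw [mem_bot] at h4
  exact mul_inv_eq_one.1 h4

/-- `|V| = |F|²` -/
theorem natOver_card {F : Type} [Field F] [Finite F] {N V : Subgroup G} (M : NatOver F N V ⊥) :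
    Nat.card V = Nat.card F ^ 2 := by
  have h1 : Function.Bijective (fun v : V => M.e v.1) := by
    constructor
    · intro v w hvw
      exact Subtype.ext (natOver_inj M v.2 w.2 hvw)
    · intro x
      obtain ⟨v, hv, h⟩ := M.surj x
      exact ⟨⟨v, hv⟩, h⟩
  rw [Nat.card_congr (Equiv.ofBijective _ h1), Nat.card_fun, Nat.card_eq_fintype_card (α := Fin 2),
    Fintype.card_fin]

namespace Core

variable {F T : Type*} [Field F] [AddCommGroup T] [Module F T]
  {V R Q X : Subgroup G} {e : F → T → F → G} {N : T → F} {B : T → T → F}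

variable [Finite G] (S : Sylow 2 G) (h : Core (S : Subgroup G) V R Q X e N B) (hG : IsCharacteristicTwoType G)
  (hZ : zc (S : Subgroup G) ≠ ⊥)
include h hG hZ

/-- another `P' ∈ P*(S)` is not of type `Nat4` (unless `V_P' ≤ Q`) -/
theorem not_nat4 {P : Subgroup G} (hP : IsParS (S : Subgroup G) P) (h4 : NO1.Nat4 (S : Subgroup G) P)
    (hPQ : ¬ zl (S : Subgroup G) P ≤ Q) : False := by
  obtain ⟨F', iF, iFin, iCh, hc4, ⟨M⟩⟩ := h4.nat
  set W := zl (S : Subgroup G) P with hW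
  have hPW : P ≤ normalizer (W : Set G) := le_normalizer_zl _ _
  have hSW : (S : Subgroup G) ≤ normalizer (W : Set G) := hP.isLoc.le.trans hPW
  have hWS : W ≤ (S : Subgroup G) :=
    (hP.isLoc.zl_le S hG).trans ((zc_le _).trans (hP.isLoc.o2_le S))
  have hWc : Nat.card W = 16 := by rw [natOver_card M, hc4]; norm_num
  have hR4 : Nat.card R = 4 := h.card_R_of S hG hZ hWS hSW hPQ hWc
  obtain ⟨hRW, w, hwW, hwQ, hwR⟩ := h.R_le_of S hG hZ hWS hSW hPQ
  obtain ⟨z, hz1⟩ := Subgroup.ne_bot_iff_exists_ne_one.1 hZ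
  have hz1' : (z : G) ≠ 1 := fun h0 => hz1 (Subtype.ext h0)
  have hzR : (z : G) ∈ R := h.Z_R z.2
  have hzW : (z : G) ∈ W := hRW hzR
  have hPc : ∀ {g v : G}, g ∈ P → v ∈ W → g * v * g⁻¹ ∈ W := fun hg hv =>
    (mem_normalizer_iff.1 (hPW hg) _).1 hv
  set x0 := M.e z with hx0
  have hx0n : x0 ≠ 0 := by
    intro h0
    have h1 := (M.ker z hzW).1 h0
    exact hz1' ((mem_bot).1 h1)
  have hdd : dt x0 x0 = 0 := by unfold dt; ring
  have finF : Finite (Option F') := inferInstance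
  have hO : Nat.card (Option F') = 5 := by rw [Finite.card_option, hc4]
  -- `e a ∈ F' x0` for `a ∈ R`
  have claim1 : ∀ a ∈ R, dt x0 (M.e a) = 0 := by
    intro a ha
    by_contra hd
    have h1 : ∀ c : F', ∃ r ∈ R, M.e r = M.e a + c • x0 := by
      intro c
      have h2 : dt x0 (M.e a + c • x0) = dt x0 (M.e a) := by
        rw [dt_add, dt_smul, hdd, mul_zero, add_zero]
      obtain ⟨A, hA1, hA2⟩ := NatPair.NormExc.exists_ap2 hd h2
      obtain ⟨g, hg, hg', -⟩ := M.lift A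
      have h3 : g * z * g⁻¹ = z := by
        apply natOver_inj M (hPc hg hzW) hzW
        rw [hg' z hzW, ← hx0, hA1]
      have h4 : g ∈ normalizer (R : Set G) := by
        apply h.ti S hG hZ hzR hz1'
        rw [h3]; exact hzR
      exact ⟨g * a * g⁻¹, h.R_nor h4 ha, by rw [hg' a (hRW ha), hA2]⟩
    choose r hr hr' using h1
    let f : Option F' → R := fun o => o.elim ⟨1, one_mem _⟩ fun c => ⟨r c, hr c⟩
    have hf : Function.Injective f := by
      have hne : ∀ c, r c ≠ 1 := by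
        intro c h0
        apply hd
        have h5 := hr' c
        rw [h0, (M.ker 1 (one_mem _)).2 (one_mem _)] at h5
        have h6 : dt x0 (M.e a + c • x0) = dt x0 (M.e a) := by
          rw [dt_add, dt_smul, hdd, mul_zero, add_zero]
        rw [← h6, ← h5]
        unfold dt; simp
      intro o o' hoo
      rcases o with _ | c <;> rcases o' with _ | c'
      · rfl
      · exact absurd (congrArg Subtype.val hoo).symm (hne c')
      · exact absurd (congrArg Subtype.val hoo) (hne c)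
      · have h5 : r c = r c' := congrArg Subtype.val hoo
        have h6 : c • x0 = c' • x0 := by
          have h7 := hr' c
          rw [h5, hr' c'] at h7
          exact (add_left_cancel h7).symm
        rw [smul_left_injective F' hx0n h6]
    have := Nat.card_le_card_of_injective f hf
    rw [hO, hR4] at this
    omega
  -- `R` is the whole point
  have claim2 : ∀ v ∈ W, dt x0 (M.e v) = 0 → v ∈ R := by
    intro v hv hd
    by_contra hvR
    have h1 : ∀ o : Option R, ∃ c : F', (o.elim (M.e v) fun a => M.e a) = c • x0 := by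
      intro o
      apply exists_smul_of_dt hx0n
      rcases o with _ | a
      · exact hd
      · exact claim1 a a.2
    choose c hc using h1
    have hf : Function.Injective c := by
      intro o o' hoo
      have h2 := hc o
      rw [hoo, ← hc o'] at h2
      rcases o with _ | a <;> rcases o' with _ | a'
      · rfl
      · exact absurd (by rw [natOver_inj M hv (hRW a'.2) h2]; exact a'.2) hvR
      · exact absurd (by rw [← natOver_inj M (hRW a.2) hv h2]; exact a.2) hvR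
      · rw [Subtype.ext (natOver_inj M (hRW a.2) (hRW a'.2) h2)]
    have h3 := Nat.card_le_card_of_injective c hf
    rw [Finite.card_option, hR4, hc4] at h3
    omega
  -- the torus
  set y0 := M.e w with hy0
  have hd : dt x0 y0 ≠ 0 := fun h0 => hwR (claim2 w hwW h0)
  obtain ⟨l, hl0, hl1⟩ : ∃ l : F', l ≠ 0 ∧ l ≠ 1 := by
    by_contra hcon
    push Not at hcon
    classical
    have h1 : Function.Injective (fun x : F' => decide (x = 0)) := by
      intro x y hxy
      replace hxy : (x = 0) ↔ (y = 0) := decide_eq_decide.1 hxy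
      by_cases hx : x = 0
      · rw [hx, hxy.1 hx]
      · have hy : y ≠ 0 := fun h0 => hx (hxy.2 h0)
        rw [hcon x hx, hcon y hy]
    have h2 := Nat.card_le_card_of_injective _ h1
    rw [hc4, Nat.card_eq_fintype_card, Fintype.card_bool] at h2
    omega
  have h2 : dt (l • x0) (l⁻¹ • y0) = dt x0 y0 := by
    have : dt (l • x0) (l⁻¹ • y0) = l * l⁻¹ * dt x0 y0 := by
      unfold dt; simp only [Pi.smul_apply, smul_eq_mul]; ring
    rw [this, mul_inv_cancel₀ hl0, one_mul]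
  obtain ⟨A, hA1, hA2⟩ := NatPair.NormExc.exists_ap2 hd h2
  obtain ⟨g, hg, hg', -⟩ := M.lift A
  have hgR : g ∈ normalizer (R : Set G) := by
    apply h.ti S hG hZ hzR hz1'
    apply claim2 _ (hPc hg hzW)
    rw [hg' z hzW, ← hx0, hA1, dt_smul, hdd, mul_zero]
  have hw2 : g * w * g⁻¹ ∈ W ⊓ Q := ⟨hPc hg hwW, h.Q_nor hgR hwQ⟩
  have hw2e : M.e (g * w * g⁻¹) = l⁻¹ • y0 := by rw [hg' w hwW, ← hy0, hA2]
  -- all multiples of `y0`
  have hmul : ∀ c : F', ∃ v ∈ W ⊓ Q, M.e v = c • y0 := by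
    have hlist : ∀ c : F', c = 0 ∨ c = 1 ∨ c = l⁻¹ ∨ c = 1 + l⁻¹ := by
      intro c
      have := Fintype.ofFinite F'
      classical
      have hli0 : l⁻¹ ≠ 0 := inv_ne_zero hl0
      have hli1 : l⁻¹ ≠ 1 := fun h0 => hl1 (inv_eq_one.1 h0)
      have e2 : ∀ x : F', x + x = 0 := fun x => CharTwo.add_self_eq_zero x
      have h7 : ({0, 1, l⁻¹, 1 + l⁻¹} : Finset F') = Finset.univ := by
        apply Finset.eq_univ_of_card
        rw [← Nat.card_eq_fintype_card, hc4, Finset.card_insert_of_notMem, Finset.card_insert_of_notMem,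
          Finset.card_insert_of_notMem, Finset.card_singleton]
        · rw [Finset.mem_singleton]
          intro h0
          exact one_ne_zero (right_eq_add.1 h0)
        · rw [Finset.mem_insert, Finset.mem_singleton]
          push Not
          exact ⟨hli1.symm, fun h0 => hli0 (left_eq_add.1 h0)⟩
        · rw [Finset.mem_insert, Finset.mem_insert, Finset.mem_singleton]
          push Not
          refine ⟨zero_ne_one, hli0.symm, fun h0 => hli1 ?_⟩
          have h8 := e2 1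
          calc l⁻¹ = 0 + l⁻¹ := by rw [zero_add]
            _ = (1 + 1) + l⁻¹ := by rw [h8]
            _ = 1 + (1 + l⁻¹) := by rw [add_assoc]
            _ = 1 := by rw [← h0, add_zero]
      have h8 : c ∈ ({0, 1, l⁻¹, 1 + l⁻¹} : Finset F') := by rw [h7]; exact Finset.mem_univ _
      rwa [Finset.mem_insert, Finset.mem_insert, Finset.mem_insert, Finset.mem_singleton] at h8
    have hwWQ : w ∈ W ⊓ Q := ⟨hwW, hwQ⟩
    intro c
    rcases hlist c with rfl | rfl | rfl | rfl
    · exact ⟨1, one_mem _, by rw [zero_smul]; exact (M.ker 1 (one_mem _)).2 (one_mem _)⟩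
    · exact ⟨w, hwWQ, by rw [one_smul]⟩
    · exact ⟨_, hw2, hw2e⟩
    · exact ⟨w * (g * w * g⁻¹), mul_mem hwWQ hw2, by rw [M.mul w hwW _ hw2.1, hw2e, add_smul, one_smul]⟩
  apply hPQ
  intro v hv
  obtain ⟨a, b, hab⟩ := exists_comb hd (M.e v)
  obtain ⟨v1, hv1, hv1e⟩ := M.surj (a • x0)
  obtain ⟨v2, hv2, hv2e⟩ := hmul b
  have hv1R : v1 ∈ R := by
    apply claim2 v1 hv1
    rw [hv1e, dt_smul, hdd, mul_zero]
  have h5 : v = v1 * v2 := by
    apply natOver_inj M hv (mul_mem hv1 hv2.1)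
    rw [M.mul v1 hv1 v2 hv2.1, hv1e, hv2e, hab]
  rw [h5]
  exact mul_mem (h.R_Q hv1R) hv2.2

end Core

end Cfsg.Agent.Omega.All.NOne

end

section


/-!
# THEOREM NAT (#13408), the output of (0)-(3)

`Cfg S P`, `V = zl S P` one natural `SL₂(F)`-module.  Then `V` is of type `Nat4` (case (α)) or `Quad`:

* `C = C_G(z)`, `Z = ⟨z⟩`, `Q = O₂(C)`, `V₁ = V ∩ Q = C_V(U)` of order 4, `|V| = 16`, `V₁ ≤ Z(Q)`;
* `H = C_G(V₁)`: `|N_G(V₁) / H| = 6`, `V, Q ≤ O₂(H)`;
* `S ∩ H` induces on `V` the Sylow 2-subgroup `U` of `SL₂(4)`: `[V, x] = V₁ = C_V(x)` for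
  `x ∈ S ∩ H`, `[V, x] ≠ 1`;
* `W₀ = ⟨V₁^C⟩` (`ncl C V₁`) : `W₀ ≤ Z(Q)`, `[v, W₀] = V₁` for `v ∈ V - V₁`;
* `t ∈ P` of odd order acts on `V` as `diag(λ, λ⁻¹)`, `λ ≠ 1`.
-/

set_option autoImplicit false
set_option linter.unusedSectionVars false

namespace Cfsg.Agent.Omega.NO1.NatA

open Subgroup Cfsg Cfsg.Agent.ZN Cfsg.Agent.Omega.MinPar Cfsg.Agent.Omega.Frame
open Cfsg.Agent.Omega.FFThm (NatK)
open Cfsg.Agent.Omega.NOne.NearFF (Fin)

universe u

section defs

variable {G : Type u} [Group G]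

/-- `⟨A^C⟩` -/
def ncl (C A : Subgroup G) : Subgroup G := _root_.Subgroup.closure {x | ∃ c ∈ C, ∃ a ∈ A, x = c * a * c⁻¹}

/-- **The output of (0)-(3) of THEOREM NAT in the quadratic case.** -/
structure Quad [Finite G] (S : Sylow 2 G) (P : Subgroup G) (z : G) (V V₁ C Q : Subgroup G) : Prop where
  cfg : Cfg S P
  V_eq : V = zl (S : Subgroup G) P
  C_eq : C = centralizer {z}
  CC_eq : C = NoFF.LinesPlug.CC (S : Subgroup G)
  Q_eq : Q = o2 C
  V1_eq : V₁ = V ⊓ Q
  Z_eq : zc (S : Subgroup G) = zpowers z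
  z_ne : z ≠ 1
  z_sq : z * z = 1
  z_mem : z ∈ V₁
  card_V : Nat.card V = 16
  card_V1 : Nat.card V₁ = 4
  /-- `V` is a natural `SL₂(4)`-module, `V₁ = {x 1 = 0}` -/
  nat : ∃ (F : Type) (_ : Field F) (_ : Finite F) (_ : CharP F 2) (M : NatK F (S : Subgroup G) P V ⊥ 1),
    Nat.card F = 4 ∧ ∀ v ∈ V, M.e v 0 1 = 0 ↔ v ∈ V₁
  /-- `P` is transitive on `V - 1` -/
  trans : ∀ v ∈ V, v ≠ 1 → ∀ w ∈ V, w ≠ 1 → ∃ p ∈ P, p * v * p⁻¹ = w
  /-- `V₁` is normal in `S` -/
  S_le : (S : Subgroup G) ≤ normalizer (V₁ : Set G)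
  /-- `Q ≤ H` -/
  Q_le : Q ≤ centralizer (V₁ : Set G)
  /-- `V ≤ R = O₂(H)` -/
  V_le_R : V ≤ o2 (centralizer (V₁ : Set G))
  /-- `Q ≤ R` -/
  Q_le_R : Q ≤ o2 (centralizer (V₁ : Set G))
  /-- `|N_G(V₁) / H| = 6` -/
  index : (centralizer (V₁ : Set G)).relIndex (normalizer (V₁ : Set G)) = 6
  /-- `S ≰ H` -/
  S_not_le : ¬ (S : Subgroup G) ≤ centralizer (V₁ : Set G)
  /-- `[V, S ∩ H] ≤ V₁` -/
  comm : ∀ x ∈ (S : Subgroup G), x ∈ centralizer (V₁ : Set G) → ∀ v ∈ V, v * x * v⁻¹ * x⁻¹ ∈ V₁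
  /-- `C_V(x) ≤ V₁` for `x ∈ S ∩ H` with `[V, x] ≠ 1` -/
  reg : ∀ x ∈ (S : Subgroup G), x ∈ centralizer (V₁ : Set G) → x ∉ centralizer (V : Set G) →
    ∀ v ∈ V, v * x = x * v → v ∈ V₁
  /-- `[V, x] = V₁` for `x ∈ S ∩ H` with `[V, x] ≠ 1` -/
  surj : ∀ x ∈ (S : Subgroup G), x ∈ centralizer (V₁ : Set G) → x ∉ centralizer (V : Set G) →
    ∀ e ∈ V₁, ∃ v ∈ V, v * x * v⁻¹ * x⁻¹ = e
  /-- `[v, W₀] = V₁` for `v ∈ V - V₁` -/
  full : ∀ v ∈ V, v ∉ V₁ → ∀ e ∈ V₁, ∃ w ∈ ncl C V₁, v * w * v⁻¹ * w⁻¹ = e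
  /-- `W₀ ≤ Z(Q)` -/
  W_le : ncl C V₁ ≤ Q ⊓ centralizer (Q : Set G)
  /-- `W₀² = 1` -/
  W_sq : ∀ w ∈ ncl C V₁, w * w = 1
  /-- `|W₀ : C_{W₀}(V)| = 4` -/
  W_index : (centralizer (V : Set G)).relIndex (ncl C V₁) = 4
  /-- a frame at every `v ∈ V - V₁`, `D = Z` -/
  frame : ∀ v ∈ V, v ∉ V₁ → ∃ g ∈ C, _root_.Cfsg.Agent.Omega.NOne.NearFF.Fin V Q v g ∧
    V₁ ⊓ V₁.map (MulAut.conj g).toMonoidHom = zpowers z
  /-- an element of odd order of `P` acting as `diag(λ, λ⁻¹)`, `λ ≠ 1` -/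
  tor : ∃ t ∈ P, Odd (orderOf t) ∧ t ∈ normalizer (V₁ : Set G) ∧
    (∀ v ∈ V, t ^ 3 * v = v * t ^ 3) ∧ (∀ v ∈ V₁, t * v = v * t → v = 1) ∧
    ∀ v ∈ V, t * v * t⁻¹ * v⁻¹ ∈ V₁ → v ∈ V₁

end defs

end Cfsg.Agent.Omega.NO1.NatA

end

end

private theorem dce_11bd69e524e0 : _root_.True := by
  try have : _root_.True := by simp only [_root_.Cfsg.Agent.Omega.NO1.TwoG.Ex.eq_1]
  try have : _root_.True := by simp only [_root_.Cfsg.Agent.Omega.NO1.TwoG.Qx.eq_1]
  try have : _root_.True := by simp only [_root_.Cfsg.Agent.Omega.NearFF.cm.eq_1]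
  exact _root_.True.intro
end

-- part: Mrg/Omega/Node/NO1
section
prune_inst 0x402200000000000000002000480001000023000130400302020e9300800087004080180010022a002000000000100050000000000000000000010020802a400282080004040001803006000000000000000000000000000000041000000000000
set_option linter.all false
open scoped Cfsg.Agent.FastGrp

section


/-!
# The leaf N1 (= NO-1': `V_P ≰ O₂(C_G(Z))`) from its parts (project OMEGA, assembler: helper406)

Text: #11359, #12527 (frame, LANDED: `NO1/Cfg.lean`, `NOne/NearFF.lean`), MASTER v5.2 #13358;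
`C = C_G(Z)`, `Q = O₂(C)`, `V = V_P`, `E = V ∩ Q`.

Parts (each a Prop, no part uses another one):
* `FFThm.StmtM` (the K-free FF theorem, #12272, module form) and the types `NatOne`, `NatMany`, `SymAll`;
* (BT), the near-FF theorem, `V` without offender: `BTNot` (TEXT B4 #15506; old split: `BTTwo` (`|V/E| = 2`),
  `BTMin`, `BTNoMin` (`|V/E| ≥ 4`));
* ends: `EndMinus2`, `EndPlus2`, `EndNat4` (`|V| = 16`, they reach "`F*(C_G(z))` of symplectic type"),
  `EndMinusQ`, `EndPlusQ` (`q ≥ 4`, they reach the list).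
-/

set_option autoImplicit false
set_option linter.unusedSectionVars false

namespace Cfsg.Agent.Omega.NO1

open Subgroup Cfsg Cfsg.Agent.ZN Cfsg.Agent.Omega.MinPar Cfsg.Agent.Omega.Frame
open Cfsg.Agent.Omega.NoFF.LinesPlug (CC)
open Cfsg.Agent.Omega.NOne.NearFF (V1)
open Cfsg.Agent.Omega.FFThm (OffM NatK SymK)
open Cfsg.Agent.Omega.FrameFF (cv)
open scoped Pointwise

universe u

/-! ### The types of `V_P`, `V_P` with an offender -/

section FF

/-- **`V` one natural `SL₂(F)`-module**: `q = 4` and `|Z| = 2` (THEOREM NAT #13408, helper359; `q = 2`: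
LEMMA T).  Owner: helper359. -/
def NatOne : Prop :=
  ∀ (G : Type u) [Group G] [Finite G] (S : Sylow 2 G) (P : Subgroup G), Cfg S P →
    ∀ (F : Type) [Field F] [Finite F] [CharP F 2],
      NatK F (S : Subgroup G) P (zl (S : Subgroup G) P) (cv (S : Subgroup G) P) 1 → Ty (S : Subgroup G) P

/-- **`V` the sum of `k ≥ 2` natural modules**: `q = 2`, `k = 2`, `V = O₄⁺(2)` (#14396, #14576).
Owner: helper727, helper806, helper791. -/
def NatMany : Prop :=
  ∀ (G : Type u) [Group G] [Finite G] (S : Sylow 2 G) (P : Subgroup G), Cfg S P →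
    ∀ (F : Type) [Field F] [Finite F] [CharP F 2] (k : ℕ), 2 ≤ k →
      NatK F (S : Subgroup G) P (zl (S : Subgroup G) P) (cv (S : Subgroup G) P) k → Ty (S : Subgroup G) P

/-- **`V` a sum of even-subset modules**: `k = 1`, `m = 2`, `V = O₄⁻(2)`.  Owner: helper457. -/
def SymAll : Prop :=
  ∀ (G : Type u) [Group G] [Finite G] (S : Sylow 2 G) (P : Subgroup G), Cfg S P →
    ∀ k m : ℕ, 0 < k → 2 ≤ m →
      SymK (S : Subgroup G) P (zl (S : Subgroup G) P) (cv (S : Subgroup G) P) k m → Ty (S : Subgroup G) P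

end FF

/-! ### (BT): the types of `V_P`, `V_P` without offender -/

section BT

/-- `P` induces no offender on `V_P` (module form: `A` is elementary abelian modulo `C_A(V)`). -/
def NoOff {G : Type u} [Group G] (S P : Subgroup G) : Prop :=
  ∀ A : Subgroup G, A ≤ P → ¬ OffM (zl S P) A

/-- **(BT)**: the five types. -/
def BT : Prop :=
  ∀ (G : Type u) [Group G] [Finite G] (S : Sylow 2 G) (P : Subgroup G), Cfg S P → Ty (S : Subgroup G) P

/-- **(BT), `V_P` without offender** (TEXT B4 #15506: LEMMA J, THEOREM FLAT and the module problem; or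
`btNot_of`). -/
def BTNot : Prop :=
  ∀ (G : Type u) [Group G] [Finite G] (S : Sylow 2 G) (P : Subgroup G), Cfg S P →
    NoOff (S : Subgroup G) P → Ty (S : Subgroup G) P

/-- (BT) from its parts. -/
theorem bt_of (hFF : FFThm.StmtM.{u}) (f1 : NatOne.{u}) (f2 : NatMany.{u}) (f3 : SymAll.{u})
    (hN : BTNot.{u}) : BT.{u} := by
  intro G _ _ S P h
  by_cases hoff : NoOff (S : Subgroup G) P
  · exact hN G S P h hoff
  · unfold NoOff at hoff
    push Not at hoff
    obtain ⟨-, ⟨F, _, _, _, k, hk, ⟨M⟩⟩ | ⟨k, m, hk, hm, ⟨M⟩⟩⟩ :=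
      hFF G (S : Subgroup G) P ⟨h.S_le, S.isPGroup', fun _ _ hT hST => S.is_maximal' hT hST⟩
        h.par.toIsMinPar (h.loc.char2 S h.ctx.char2) hoff
    · rcases Nat.lt_or_ge k 2 with hk2 | hk2
      · obtain rfl : k = 1 := by omega
        exact f1 G S P h F M.toNatK
      · exact f2 G S P h F k hk2 M.toNatK
    · exact f3 G S P h k m hk hm M.toSymK

end BT

/-! ### The ends, `|V| = 16` -/

section ends

/-- `F*(C_G(z))` of symplectic type. -/
def Sympl {G : Type u} [Group G] (z : G) : Prop :=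
  orderOf z = 2 ∧ IsOfSymplecticType ↥(generalizedFittingSubgroup ↥(centralizer ({z} : Set G)))

/-- **(β), `q = 2`**: THEOREM D0 (#11921, `NOne/DZeroPts.lean`).  Owner: helper302 / helper406 (plug). -/
def EndMinus2 : Prop :=
  ∀ (G : Type u) [Group G] [Finite G] (S : Sylow 2 G) (P : Subgroup G), Cfg S P →
    ∀ z : Fin 5 → G, Minus2 (S : Subgroup G) P z → Sympl (z 0)

/-- **(γ), `q = 2`**: THEOREM D0+ (#12107, #12381, #13123) and THEOREM D0ag (#13591).
Owner: helper313, helper319. -/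
def EndPlus2 : Prop :=
  ∀ (G : Type u) [Group G] [Finite G] (S : Sylow 2 G) (P : Subgroup G), Cfg S P →
    ∀ z : Fin 3 → Fin 3 → G, Plus2 (S : Subgroup G) P z → Sympl (z 0 0)

/-- **(α)**: `V` natural for `SL₂(4)`, `|Z| = 2`: THEOREM D0ag (#13591; shadows `Aut M₂₂`, `M₂₂`, `M₂₃`).
Owner: helper313. -/
def EndNat4 : Prop :=
  ∀ (G : Type u) [Group G] [Finite G] (S : Sylow 2 G) (P : Subgroup G), Cfg S P →
    Nat4 (S : Subgroup G) P → ∃ t : G, Sympl t

variable (K : Cls.{u})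

/-- **(β), `q ≥ 4`**: THEOREM BETA (#12530; helper136, 652, 183), THEOREM U = SU (#13345, #13356; helper301,
177, 456), closing (#13360-: helper802, 301, 943, 870, 534).  Output `U_n(q)`. -/
def EndMinusQ : Prop :=
  ∀ (G : Type u) [Group G] [Finite G] (S : Sylow 2 G) (P : Subgroup G), Cfg S P → K G →
    ∀ (F : Type) [Field F] [Finite F] [CharP F 2] (σ : F ≃+* F), σ ≠ RingEquiv.refl F →
      (∀ x, σ (σ x) = x) → 16 ≤ Nat.card F → MinusQ F σ P (zl (S : Subgroup G) P) → IsKnownSimple' G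

/-- **(γ), `q ≥ 4`**: THEOREM BETA for `O₄⁺(q)` (#12530), END (the factors are interchanged: contradiction).
Owner: helper177 (text). -/
def EndPlusQ : Prop :=
  ∀ (G : Type u) [Group G] [Finite G] (S : Sylow 2 G) (P : Subgroup G), Cfg S P → K G →
    ∀ (F : Type) [Field F] [Finite F] [CharP F 2], 4 ≤ Nat.card F →
      4 ≤ (EE (S : Subgroup G) P).relIndex (zl (S : Subgroup G) P) →
      PlusQ F P (zl (S : Subgroup G) P) → IsKnownSimple' G

end ends

/-! ### The leaf -/

/-- **N1 from (BT), the ends and `NodeSympl`.**  The ends for `q ≥ 4` may use (BT). -/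
theorem nodeN1_of {K : Cls.{u}} (hS : FrameExtra.NodeSympl K) (hBT : BT.{u}) (h1 : EndMinus2.{u})
    (h2 : EndPlus2.{u}) (h4 : EndNat4.{u}) (h5 : BT.{u} → EndMinusQ K) (h6 : BT.{u} → EndPlusQ K) :
    FrameLE.NodeN1 K := by
  intro G _ _ hG hK S hF P hP hV
  have h : Cfg S P := Cfg.of hG hF hP hV
  rcases hBT G S P h with ⟨z, hz⟩ | ⟨z, hz⟩ | hn | ⟨F, σ, ha, hb, hc, ⟨M⟩⟩ | ⟨F, hc, hE, ⟨M⟩⟩
  · obtain ⟨ho, hq⟩ := h1 G S P h z hz
    exact hS G hG hK (z 0) ho hq
  · obtain ⟨ho, hq⟩ := h2 G S P h z hz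
    exact hS G hG hK (z 0 0) ho hq
  · obtain ⟨t, ho, hq⟩ := h4 G S P h hn
    exact hS G hG hK t ho hq
  · exact h5 hBT G S P h hK F σ ha hb hc M
  · exact h6 hBT G S P h hK F hc hE M

end Cfsg.Agent.Omega.NO1

end

section


/-!
# LEMMA J of TEXT B4 (#15506; referees #15684, #15714, #15760), generic form

`V = ⟨Z^M⟩`, `Z = Ω₁(Z(S))`.

`Inv S P M` : `S, P ≤ M`, `V` elementary abelian, `N_G(T) ≤ M` for all `C_S(V) ≤ T ≤ S`.

* `inv_zero` : `Inv S P N_G(J(S))` if `V_P` has no offender;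
* `Inv.step` : a new pair with a smaller `V`, from an `M`-invariant family of subgroups whose members in `S` lie
  in `O₂(P)`;
* `exists_min` : there is a pair with minimal `V`: every `M`-invariant family with a member in `S` which does not
  centralise `V` has a member in `S` which is not in `O₂(P)`;
* `Inv.o2_le` : `O₂(C_G(D)) ≤ M` for `D ≤ V`.
-/

set_option autoImplicit false
set_option linter.unusedSectionVars false

namespace Cfsg.Agent.Omega.NO1.JMin

open Subgroup Cfsg Cfsg.Agent.ZN Cfsg.Agent.ZN.ChoiceBase Cfsg.Agent.Omega.MinPar Cfsg.Agent.Omega.Frame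
open Cfsg.Agent.Omega.NO1
open Cfsg.Agent.ZN.ChoiceSit (Syl syl_conj exists_syl o2_le_syl)
open Cfsg.Agent.Omega.FFThm (OffM)
open Cfsg.Agent.PLocal.ThompsonJ (isElementaryAbelian_iff)

universe u

variable {G : Type u} [Group G] [Finite G]

/-- The invariant of the recursion. -/
structure Inv (S P M : Subgroup G) : Prop where
  SM : S ≤ M
  PM : P ≤ M
  el : IsElementaryAbelian 2 (zl S M)
  J : ∀ T : Subgroup G, S ⊓ centralizer (zl S M : Set G) ≤ T → T ≤ S → normalizer (T : Set G) ≤ M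

theorem zl_mono {S L M : Subgroup G} (h : L ≤ M) : zl S L ≤ zl S M :=
  MinSimple.VModule.zl_le (MinSimple.VModule.zc_le_zl S M) (h.trans (MinSimple.VModule.le_normalizer_zl S M))

section step

variable {S P M : Subgroup G}

/-- The subgroup of the family `SS`: `⟨C_S(V), X ∈ SS, X ≤ S⟩`. -/
def KK (S M : Subgroup G) (SS : Set (Subgroup G)) : Subgroup G :=
  (S ⊓ centralizer (zl S M : Set G)) ⊔ sSup {X | X ∈ SS ∧ X ≤ S}

theorem KK_le (S M : Subgroup G) (SS : Set (Subgroup G)) : KK S M SS ≤ S :=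
  sup_le inf_le_left (sSup_le fun _ h => h.2)

theorem le_KK {S M : Subgroup G} {SS : Set (Subgroup G)} {X : Subgroup G} (h : X ∈ SS) (hX : X ≤ S) :
    X ≤ KK S M SS := (le_sSup (show X ∈ {X | X ∈ SS ∧ X ≤ S} from ⟨h, hX⟩)).trans le_sup_right

/-- An element of `M` which normalises a subgroup `T` between `KK` and `S` normalises `KK`. -/
theorem mem_normalizer_KK {SS : Set (Subgroup G)}
    (hSS : ∀ m ∈ M, ∀ X ∈ SS, cj m X ∈ SS) {T : Subgroup G} (hKT : KK S M SS ≤ T) (hTS : T ≤ S) {m : G}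
    (hm : m ∈ M) (hmT : m ∈ normalizer (T : Set G)) : m ∈ normalizer (KK S M SS : Set G) := by
  have hT := cj_eq_of_mem_normalizer hmT
  refine mem_normalizer_of_cj_le ?_
  rw [KK, cj, Subgroup.map_sup]
  refine sup_le ?_ ?_
  · refine le_trans ?_ (le_sup_left : S ⊓ centralizer (zl S M : Set G) ≤ KK S M SS)
    refine le_inf ?_ ?_
    · refine (cj_mono m ((le_sup_left : S ⊓ centralizer (zl S M : Set G) ≤ KK S M SS).trans hKT)).trans ?_
      exact hT.le.trans hTS
    · refine (cj_mono m inf_le_right).trans ?_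
      rw [cj_centralizer, cj_eq_of_mem_normalizer (MinSimple.VModule.le_normalizer_zl S M hm)]
  · rw [Subgroup.map_le_iff_le_comap]
    refine sSup_le fun X hX => ?_
    rw [← Subgroup.map_le_iff_le_comap]
    refine le_KK (hSS m hm X hX.1) ?_
    exact ((cj_mono m ((le_KK hX.1 hX.2).trans hKT)).trans hT.le).trans hTS

/-- `P` normalises `KK ≤ O₂(P)`. -/
theorem KK_le_o2 (hCS : S ⊓ centralizer (zl S P : Set G) ≤ o2 P) (h : Inv S P M) {SS : Set (Subgroup G)}
    (hle : ∀ X ∈ SS, X ≤ S → X ≤ o2 P) : KK S M SS ≤ o2 P := by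
  refine sup_le ?_ (sSup_le fun X hX => hle X hX.1 hX.2)
  exact (inf_le_inf_left S (centralizer_le (zl_mono h.PM))).trans hCS

/-- `KK` centralises the new `V`. -/
theorem KK_le_centralizer (SS : Set (Subgroup G)) :
    KK S M SS ≤ centralizer (zl S (M ⊓ normalizer (KK S M SS : Set G)) : Set G) := by
  rw [Subgroup.le_centralizer_iff]
  refine MinSimple.VModule.zl_le ?_ ?_
  · rw [Subgroup.le_centralizer_iff]
    exact (KK_le S M SS).trans (MinSimple.VModule.le_centralizer_zc S)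
  · refine inf_le_right.trans ?_
    intro g hg
    rw [mem_normalizer_iff_cj, cj_centralizer, cj_eq_of_mem_normalizer hg]

/-- **The step.** -/
theorem Inv.step (h : Inv S P M) (hS2 : o2 P ≤ S)
    (hCS : S ⊓ centralizer (zl S P : Set G) ≤ o2 P) {SS : Set (Subgroup G)}
    (hSS : ∀ m ∈ M, ∀ X ∈ SS, cj m X ∈ SS) (hle : ∀ X ∈ SS, X ≤ S → X ≤ o2 P) :
    Inv S P (M ⊓ normalizer (KK S M SS : Set G)) where
  SM := fun s hs => ⟨h.SM hs, mem_normalizer_KK hSS (KK_le S M SS) le_rfl (h.SM hs) (le_normalizer hs)⟩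
  PM := fun p hp => ⟨h.PM hp, mem_normalizer_KK hSS (KK_le_o2 hCS h hle) hS2 (h.PM hp)
    (MinSimple.VModule.le_normalizer_o2 P hp)⟩
  el := by
    have h1 : zl S (M ⊓ normalizer (KK S M SS : Set G)) ≤ zl S M := zl_mono inf_le_left
    have h2 := isElementaryAbelian_iff.1 h.el
    exact isElementaryAbelian_iff.2 ⟨fun a ha b hb => h2.1 a (h1 ha) b (h1 hb), fun a ha => h2.2 a (h1 ha)⟩
  J := by
    intro T hT hTS t ht
    have h1 : KK S M SS ≤ T := (le_inf (KK_le S M SS) (KK_le_centralizer SS)).trans hT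
    have h2 : t ∈ M := h.J T (le_sup_left.trans h1) hTS ht
    exact ⟨h2, mem_normalizer_KK hSS h1 hTS h2 ht⟩

end step

section zero

variable {S : Sylow 2 G} {P : Subgroup G}

theorem V_el (hG : IsCharacteristicTwoType G) (hP : IsParS (S : Subgroup G) P) :
    IsElementaryAbelian 2 (zl (S : Subgroup G) P) := by
  have h1 := hP.isLoc.zl_le S hG
  refine isElementaryAbelian_iff.2 ⟨fun a ha b hb => ?_, fun a ha => MinSimple.VModule.zc_sq _ _ (h1 ha)⟩
  exact MinSimple.VModule.zc_comm _ _ (h1 ha) _ (h1 hb)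

theorem jj_le_o2 (hG : IsCharacteristicTwoType G) (hP : IsParS (S : Subgroup G) P)
    (hoff : NoOff (S : Subgroup G) P) : jj (S : Subgroup G) ≤ o2 P := by
  rw [jj_eq, ← hP.inf_centralizer S hG]
  refine sSup_le fun A hA => le_inf hA.2.1 ?_
  by_contra hne
  have hVS : zl (S : Subgroup G) P ≤ S :=
    ((hP.isLoc.zl_le S hG).trans (MinSimple.VModule.zc_le _)).trans (hP.isLoc.o2_le S)
  exact hoff A (hA.2.1.trans hP.isLoc.le) (FFThm.off_of_AA (V_el hG hP) hVS hA hne).offM

/-- The start `M = N_G(J(S))`. -/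
theorem inv_zero (hG : IsCharacteristicTwoType G) (hP : IsParS (S : Subgroup G) P)
    (hoff : NoOff (S : Subgroup G) P) :
    Inv (S : Subgroup G) P (normalizer (jj (S : Subgroup G) : Set G)) := by
  have hV : zl (S : Subgroup G) (normalizer (jj (S : Subgroup G) : Set G)) ≤ zj (S : Subgroup G) := by
    refine MinSimple.VModule.zl_le (ChoiceBase.zc_le_zj _) ?_
    intro g hg
    have h1 := cj_eq_of_mem_normalizer hg
    rw [mem_normalizer_iff_cj, ← zj_cj]
    refine zj_congr ?_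
    rw [jj_cj, h1]
  refine ⟨le_normalizer.trans (normalizer_le_jj _), ?_, ?_, ?_⟩
  · have h1 : jj (o2 P) = jj (S : Subgroup G) := jj_eq_of_jj_le (jj_le_o2 hG hP hoff) (hP.isLoc.o2_le S)
    rw [← h1]
    exact (MinSimple.VModule.le_normalizer_o2 P).trans (normalizer_le_jj _)
  · refine isElementaryAbelian_iff.2 ⟨fun a ha b hb => ?_, fun a ha => (ChoiceBase.mem_zj.1 (hV ha)).2.1⟩
    exact (ChoiceBase.mem_zj.1 (hV hb)).2.2 a (ChoiceBase.mem_zj.1 (hV ha)).1
  · intro T hT hTS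
    have h1 : jj (S : Subgroup G) ≤ T := by
      refine le_trans (le_inf (ChoiceBase.jj_le _) ?_) hT
      rw [Subgroup.le_centralizer_iff]
      refine hV.trans fun x hx => mem_centralizer_iff.2 fun y hy => (ChoiceBase.mem_zj.1 hx).2.2 y hy
    rw [← jj_eq_of_jj_le h1 hTS]
    exact normalizer_le_jj T

/-- **LEMMA J**, generic form. -/
theorem exists_min' (hG : IsCharacteristicTwoType G) (hP : IsParS (S : Subgroup G) P)
    (hoff : NoOff (S : Subgroup G) P) :
    ∃ M : Subgroup G, Inv (S : Subgroup G) P M ∧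
      ∀ SS : Set (Subgroup G), (∀ m ∈ M, ∀ X ∈ SS, cj m X ∈ SS) →
        (∃ X ∈ SS, X ≤ S ∧ ¬ X ≤ centralizer (zl (S : Subgroup G) M : Set G)) →
        ∃ X ∈ SS, X ≤ S ∧ ¬ X ≤ o2 P := by
  obtain ⟨M, hM, hmin⟩ := Set.exists_min_image {M : Subgroup G | Inv (S : Subgroup G) P M}
    (fun M => Nat.card (zl (S : Subgroup G) M)) (Set.toFinite _) ⟨_, inv_zero hG hP hoff⟩
  refine ⟨M, hM, fun SS hSS hex => ?_⟩
  by_contra hcon
  push Not at hcon
  obtain ⟨X, hX, hXS, hXC⟩ := hex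
  have h1 := Inv.step hM (hP.isLoc.o2_le S) (hP.inf_centralizer S hG).le hSS hcon
  have h2 := hmin _ h1
  have h3 : zl (S : Subgroup G) (M ⊓ normalizer (KK (S : Subgroup G) M SS : Set G)) = zl (S : Subgroup G) M :=
    Subgroup.eq_of_le_of_card_ge (zl_mono inf_le_left) h2
  apply hXC
  rw [← h3]
  exact (le_KK hX hXS).trans (KK_le_centralizer SS)

/-- **LEMMA J**, generic form, for N1. -/
theorem exists_min (h : Cfg S P) (hoff : NoOff (S : Subgroup G) P) :
    ∃ M : Subgroup G, Inv (S : Subgroup G) P M ∧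
      ∀ SS : Set (Subgroup G), (∀ m ∈ M, ∀ X ∈ SS, cj m X ∈ SS) →
        (∃ X ∈ SS, X ≤ S ∧ ¬ X ≤ centralizer (zl (S : Subgroup G) M : Set G)) →
        ∃ X ∈ SS, X ≤ S ∧ ¬ X ≤ o2 P :=
  exists_min' h.ctx.char2 h.one.star hoff

end zero

section o2

variable {S : Sylow 2 G} {P M : Subgroup G}

theorem syl_cj {T X : Subgroup G} (h : Syl T X) (g : G) : Syl (cj g T) (cj g X) := by
  refine ⟨cj_mono g h.1, isPGroup_cj g h.2.1, fun Q hQ hQ2 hle => ?_⟩
  have h1 := h.2.2 (cj g⁻¹ Q) (by rw [cj_le_iff, inv_inv]; exact hQ) (isPGroup_cj _ hQ2)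
    (by rw [← cj_le_iff]; exact hle)
  rw [← h1, cj_cj_inv]

/-- In the case `T = C_S(D)`. -/
theorem Inv.syl_base (h : Inv (S : Subgroup G) P M) {D : Subgroup G} (hD : D ≤ zl (S : Subgroup G) M)
    (hT : Syl ((S : Subgroup G) ⊓ centralizer (D : Set G)) (M ⊓ centralizer (D : Set G))) :
    Syl ((S : Subgroup G) ⊓ centralizer (D : Set G)) (centralizer (D : Set G)) := by
  refine ⟨inf_le_right, hT.2.1, fun Q hQ hQ2 hle => ?_⟩
  have hN : normalizer (((S : Subgroup G) ⊓ centralizer (D : Set G) : Subgroup G) : Set G) ≤ M :=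
    h.J _ (inf_le_inf_left _ (centralizer_le hD)) inf_le_left
  refine (ZN.ChoiceNse.eq_of_normalizer_inf_le hQ2 hle ?_).symm
  exact (hT.2.2 _ (le_inf (inf_le_left.trans hN) (inf_le_right.trans hQ)) (hQ2.to_le inf_le_right)
    (le_inf le_normalizer hle)).le

/-- A Sylow 2-subgroup `T` of `C_M(D)`, `D ≤ V`, has an `M`-conjugate `C_S(D^m)`. -/
theorem Inv.exists_conj (h : Inv (S : Subgroup G) P M) {D T : Subgroup G}
    (hT : Syl T (M ⊓ centralizer (D : Set G))) : ∃ m ∈ M,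
      cj m T = (S : Subgroup G) ⊓ centralizer (cj m D : Set G) ∧
        Syl ((S : Subgroup G) ⊓ centralizer (cj m D : Set G)) (M ⊓ centralizer (cj m D : Set G)) := by
  have hS : Syl (S : Subgroup G) M := ⟨h.SM, S.isPGroup', fun Q _ hQ hSQ => S.is_maximal' hQ hSQ⟩
  obtain ⟨R, hR, hTR⟩ := exists_syl hT.2.1 (hT.1.trans inf_le_left)
  obtain ⟨m, hm, hm'⟩ := syl_conj hR hS
  have hM : cj m M = M := cj_eq_of_mem_normalizer (le_normalizer hm)
  have h1 : Syl (cj m T) (M ⊓ centralizer (cj m D : Set G)) := by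
    have := syl_cj hT m
    rwa [cj_inf, hM, cj_centralizer] at this
  have h2 : cj m T = (S : Subgroup G) ⊓ centralizer (cj m D : Set G) := by
    refine (h1.2.2 _ (inf_le_inf_right _ h.SM) (S.isPGroup'.to_le inf_le_left) ?_).symm
    refine le_inf ?_ (h1.1.trans inf_le_right)
    rw [← hm']
    exact cj_mono m hTR
  exact ⟨m, hm, h2, h2 ▸ h1⟩

/-- `N_G(T) ≤ M` for a Sylow 2-subgroup `T` of `C_M(D)`, `D ≤ V`. -/
theorem Inv.normalizer_le (h : Inv (S : Subgroup G) P M) {D T : Subgroup G} (hD : D ≤ zl (S : Subgroup G) M)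
    (hT : Syl T (M ⊓ centralizer (D : Set G))) : normalizer (T : Set G) ≤ M := by
  obtain ⟨m, hm, h1, -⟩ := h.exists_conj hT
  have hV := cj_eq_of_mem_normalizer (MinSimple.VModule.le_normalizer_zl (S : Subgroup G) M hm)
  have h2 : normalizer (cj m T : Set G) ≤ M := by
    rw [h1]
    refine h.J _ (inf_le_inf_left _ (centralizer_le ?_)) inf_le_left
    exact (cj_mono m hD).trans hV.le
  rw [← cj_normalizer] at h2
  have h3 := cj_le_iff.1 h2
  rwa [cj_eq_of_mem_normalizer (le_normalizer (inv_mem hm))] at h3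

/-- **(i)**: a Sylow 2-subgroup of `C_M(D)` is Sylow in `C_G(D)`. -/
theorem Inv.syl (h : Inv (S : Subgroup G) P M) {D T : Subgroup G} (hD : D ≤ zl (S : Subgroup G) M)
    (hT : Syl T (M ⊓ centralizer (D : Set G))) : Syl T (centralizer (D : Set G)) := by
  refine ⟨hT.1.trans inf_le_right, hT.2.1, fun Q hQ hQ2 hle => ?_⟩
  refine (ZN.ChoiceNse.eq_of_normalizer_inf_le hQ2 hle ?_).symm
  exact (hT.2.2 _ (le_inf (inf_le_left.trans (h.normalizer_le hD hT)) (inf_le_right.trans hQ))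
    (hQ2.to_le inf_le_right) (le_inf le_normalizer hle)).le

theorem exists_syl_of (X : Subgroup G) : ∃ T, Syl T X := by
  obtain ⟨T, hT, -⟩ := exists_syl (T := (⊥ : Subgroup G)) (X := X) IsPGroup.of_bot bot_le
  exact ⟨T, hT⟩

/-- **(i)**: `O₂(C_G(D)) ≤ M`. -/
theorem Inv.o2_le (h : Inv (S : Subgroup G) P M) {D : Subgroup G} (hD : D ≤ zl (S : Subgroup G) M) :
    o2 (centralizer (D : Set G)) ≤ M := by
  obtain ⟨T, hT⟩ := exists_syl_of (M ⊓ centralizer (D : Set G))
  exact (o2_le_syl (h.syl hD hT)).trans (hT.1.trans inf_le_left)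

end o2

end Cfsg.Agent.Omega.NO1.JMin

end

section


/-!
# THEOREM WRF (bb OMEGA #16078), step (4): `W` acts on one block only

`Sit S P V` : `V ≤ S` is abelian, normalised by `P`, centralised by `O₂(P)` and generated by the `P`-conjugates of
`V ∩ Z`, `Z = Ω₁(Z(S))` (`V = V_P` in `NO1.Cfg`: `Cfg.sit`; or `V = [V_P, O²(P)]`).

`Pair S P V A B So` : `V = A × B`, `So` of index 2 in `S` normalises `A` and `B`, the elements of `S - So` swap them,
`B` is generated by the projection of `V ∩ Z` under `C_P(A)`.  If `A` and `V ∩ Z` lie in `FF`, which commutes with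
`V`, then `V ≤ O₂(C_G(FF))`.
-/

set_option autoImplicit false
set_option linter.unusedSectionVars false

namespace Cfsg.Agent.Omega.NO1.WRF.Single

open Subgroup Cfsg Cfsg.Agent.ZN Cfsg.Agent.ZN.ChoiceBase Cfsg.Agent.Omega.MinPar Cfsg.Agent.Omega.Frame
open Cfsg.Agent.Omega.NO1

universe u

variable {G : Type u} [Group G] [Finite G]

/-! ### General lemmas -/

theorem mem_of_index_two {H K : Subgroup G} (h2 : H.relIndex K = 2) {x y : G} (hx : x ∈ K)
    (hy : y ∈ K) (hx' : x ∉ H) (hy' : y ∉ H) : x⁻¹ * y ∈ H := by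
  have h : (H.subgroupOf K).index = 2 := h2
  have h1 := mul_mem_iff_of_index_two h (a := (⟨x, hx⟩ : K)⁻¹) (b := ⟨y, hy⟩)
  rw [inv_mem_iff] at h1
  have h3 := h1.mpr (iff_of_false (fun h => hx' (mem_subgroupOf.mp h)) (fun h => hy' (mem_subgroupOf.mp h)))
  exact mem_subgroupOf.mp h3

/-- `S ∩ N` is Sylow in the normal subgroup `N` of `P ≥ S`. -/
theorem le_of_normal (S : Sylow 2 G) {P N Q : Subgroup G} (hSP : (S : Subgroup G) ≤ P) (hNP : N ≤ P)
    (hN : P ≤ normalizer (N : Set G)) (hQ : IsPGroup 2 Q) (hQN : Q ≤ N)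
    (hle : (S : Subgroup G) ⊓ N ≤ Q) : Q ≤ (S : Subgroup G) := by
  have hS : ChoiceSit.Syl (S : Subgroup G) P := ⟨hSP, S.isPGroup', fun R _ hR hSR => S.is_maximal' hR hSR⟩
  obtain ⟨R, hR, hQR⟩ := ChoiceSit.exists_syl hQ (hQN.trans hNP)
  obtain ⟨p, hp, hpR⟩ := ChoiceSit.syl_conj hR hS
  have h1 : cj p Q ≤ (S : Subgroup G) ⊓ N := by
    refine le_inf ?_ ?_
    · rw [← hpR]; exact cj_mono p hQR
    · have h2 := cj_eq_of_mem_normalizer (hN hp)
      rw [← h2]; exact cj_mono p hQN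
  have h3 : Nat.card Q ≤ Nat.card ((S : Subgroup G) ⊓ N : Subgroup G) := by
    rw [← card_cj p Q]
    exact Subgroup.card_le_of_le h1
  have h4 := Subgroup.eq_of_le_of_card_ge hle h3
  rw [← h4]
  exact inf_le_left

/-- A subgroup of index 2 in a Sylow group has index at most 2 in every 2-group over it. -/
theorem mem_of_twoGroup (S : Sylow 2 G) {So Q : Subgroup G} (hSo : So ≤ (S : Subgroup G))
    (h2 : So.relIndex (S : Subgroup G) = 2) (hQ : IsPGroup 2 Q) (hle : So ≤ Q) {x y : G} (hx : x ∈ Q) (hy : y ∈ Q)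
    (hx' : x ∉ So) (hy' : y ∉ So) : x⁻¹ * y ∈ So := by
  obtain ⟨T, hT⟩ := hQ.exists_le_sylow
  obtain ⟨g, hg⟩ := MulAction.exists_smul_eq G T S
  have hg' : cj g (T : Subgroup G) = (S : Subgroup G) := by
    rw [← hg, Sylow.coe_subgroup_smul]
    rfl
  have hle' : cj g So ≤ (S : Subgroup G) := by
    rw [← hg']; exact cj_mono g (hle.trans hT)
  have h3 : (cj g So).relIndex (S : Subgroup G) = 2 := by
    have h4 : Nat.card So * So.relIndex (S : Subgroup G) = Nat.card (S : Subgroup G) := by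
      rw [Subgroup.relIndex, ← Nat.card_congr (Subgroup.subgroupOfEquivOfLe hSo).toEquiv]
      exact Subgroup.card_mul_index _
    have h5 : Nat.card (cj g So) * (cj g So).relIndex (S : Subgroup G) = Nat.card (S : Subgroup G) := by
      rw [Subgroup.relIndex, ← Nat.card_congr (Subgroup.subgroupOfEquivOfLe hle').toEquiv]
      exact Subgroup.card_mul_index _
    rw [card_cj, ← h4, h2] at h5
    exact Nat.eq_of_mul_eq_mul_left Nat.card_pos h5
  have hS : ∀ w ∈ Q, g * w * g⁻¹ ∈ (S : Subgroup G) := by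
    intro w hw
    rw [← hg']
    exact ⟨w, hT hw, rfl⟩
  have hn : ∀ w, w ∉ So → g * w * g⁻¹ ∉ cj g So := by
    intro w hw h
    rw [mem_cj] at h
    apply hw
    have e : g⁻¹ * (g * w * g⁻¹) * g = w := by group
    rwa [e] at h
  have h6 := mem_of_index_two h3 (hS x hx) (hS y hy) (hn x hx') (hn y hy')
  rw [mem_cj] at h6
  have e : g⁻¹ * ((g * x * g⁻¹)⁻¹ * (g * y * g⁻¹)) * g = x⁻¹ * y := by group
  rwa [e] at h6

/-- `O₂(Y) ∩ C ≤ O₂(C)` for `C ≤ Y`. -/
theorem inf_o2_le {Y C B : Subgroup G} (hC : C ≤ Y) (h1 : B ≤ o2 Y) (h2 : B ≤ C) : B ≤ o2 C := by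
  refine le_trans (le_inf h1 h2) ?_
  refine le_o2 inf_le_right ((isPGroup_o2 Y).to_le inf_le_left) ?_
  intro c hc
  refine mem_normalizer_of_cj_le ?_
  rw [cj_inf, cj_eq_of_mem_normalizer (le_normalizer_o2 Y (hC hc)), cj_eq_of_mem_normalizer (le_normalizer hc)]

/-! ### The configuration -/

/-- `V ≤ S` is abelian, normalised by `P`, centralised by `O₂(P)` and generated by the `P`-conjugates of `V ∩ Z`. -/
structure Sit (S : Sylow 2 G) (P V : Subgroup G) : Prop where
  char2 : IsCharacteristicTwoType G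
  par : IsPar (S : Subgroup G) P
  le : V ≤ (S : Subgroup G)
  comm : V ≤ centralizer (V : Set G)
  norm : P ≤ normalizer (V : Set G)
  o2_le : o2 P ≤ centralizer (V : Set G)
  gen : ∀ X : Subgroup G, (∀ p ∈ P, ∀ z ∈ V, z ∈ zc (S : Subgroup G) → p * z * p⁻¹ ∈ X) → V ≤ X

theorem _root_.Cfsg.Agent.Omega.NO1.Cfg.sit {S : Sylow 2 G} {P : Subgroup G} (h : Cfg S P) :
    Sit S P (zl (S : Subgroup G) P) where
  char2 := h.ctx.char2
  par := h.par
  le := h.V_le_S
  comm := h.V_comm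
  norm := Cfg.P_norm_V S P
  o2_le := by rw [← h.S_inf_centralizer]; exact inf_le_right
  gen := fun X hX => iSup_le fun g => by
    rintro _ ⟨x, hx, rfl⟩
    exact hX g g.2 x (h.Z_le_V hx) hx

/-- `V = A × B`, `So` of index 2 in `S` normalises `A` and `B`, the elements of `S - So` swap them, and `B` is
generated by the projection of `V ∩ Z` under `C_P(A)`. -/
structure Pair (S : Sylow 2 G) (P V A B So : Subgroup G) : Prop where
  sup : A ⊔ B = V
  inf : A ⊓ B = ⊥
  So_le : So ≤ (S : Subgroup G)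
  index : So.relIndex (S : Subgroup G) = 2
  So_A : So ≤ normalizer (A : Set G)
  So_B : So ≤ normalizer (B : Set G)
  swap : ∃ s ∈ (S : Subgroup G), cj s A = B ∧ cj s B = A
  normal : P ≤ normalizer ((P ⊓ normalizer (A : Set G) : Subgroup G) : Set G)
  syl : (S : Subgroup G) ⊓ normalizer (A : Set G) ≤ So
  DB : P ⊓ centralizer (A : Set G) ≤ normalizer (B : Set G)
  gen : ∀ X : Subgroup G, X ≤ B → P ⊓ centralizer (A : Set G) ≤ normalizer (X : Set G) →
    (∀ a ∈ A, ∀ b ∈ B, a * b ∈ zc (S : Subgroup G) → b ∈ X) → B ≤ X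

namespace Pair

variable {S : Sylow 2 G} {P V A B So : Subgroup G} (H : Pair S P V A B So)
include H

theorem A_le : A ≤ V := H.sup ▸ le_sup_left
theorem B_le : B ≤ V := H.sup ▸ le_sup_right

/-- the components are unique -/
theorem uniq {a a' b b' : G} (ha : a ∈ A) (ha' : a' ∈ A) (hb : b ∈ B) (hb' : b' ∈ B)
    (h : a * b = a' * b') : a = a' ∧ b = b' := by
  have h1 : a'⁻¹ * a = b' * b⁻¹ := by
    have : a'⁻¹ * (a * b) * b⁻¹ = a'⁻¹ * (a' * b') * b⁻¹ := by rw [h]
    calc a'⁻¹ * a = a'⁻¹ * (a * b) * b⁻¹ := by group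
      _ = a'⁻¹ * (a' * b') * b⁻¹ := this
      _ = b' * b⁻¹ := by group
  have h2 : a'⁻¹ * a ∈ A ⊓ B := ⟨A.mul_mem (A.inv_mem ha') ha, by rw [h1]; exact B.mul_mem hb' (B.inv_mem hb)⟩
  rw [H.inf, mem_bot] at h2
  have h3 : a = a' := (inv_mul_eq_one.mp h2).symm
  refine ⟨h3, ?_⟩
  rw [h3] at h
  exact mul_left_cancel h

/-- `So` centralises the components of the elements of `Z` -/
theorem So_comm {a b s : G} (ha : a ∈ A) (hb : b ∈ B) (hz : a * b ∈ zc (S : Subgroup G)) (hs : s ∈ So) :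
    s * a * s⁻¹ = a ∧ s * b * s⁻¹ = b := by
  have h1 := (ChoiceBase.mem_zc.1 hz).2.2 s (H.So_le hs)
  have h2 : s * a * s⁻¹ ∈ A := (mem_normalizer_iff.mp (H.So_A hs) a).mp ha
  have h3 : s * b * s⁻¹ ∈ B := (mem_normalizer_iff.mp (H.So_B hs) b).mp hb
  refine H.uniq h2 ha h3 hb ?_
  calc s * a * s⁻¹ * (s * b * s⁻¹) = s * (a * b) * s⁻¹ := by group
    _ = a * b * s * s⁻¹ := by rw [h1]
    _ = a * b := by group

end Pair

/-- **(4b)** -/
theorem single {S : Sylow 2 G} {P V A B So FF : Subgroup G} (h : Sit S P V) (hV1 : V ≠ ⊥) (H : Pair S P V A B So)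
    (hFV : V ≤ centralizer (FF : Set G)) (hFc : FF ≤ centralizer (FF : Set G))
    (hF2 : IsPGroup 2 FF) (hAF : A ≤ FF) (hZF : V ⊓ zc (S : Subgroup G) ≤ FF) :
    V ≤ o2 (centralizer (FF : Set G)) := by
  have hAo : A ≤ o2 (centralizer (FF : Set G)) :=
    hAF.trans (le_o2 hFc hF2 (centralizer_le_normalizer _))
  rw [← H.sup]
  refine sup_le hAo ?_
  -- the element `a`
  obtain ⟨a, ha, b, hb, hz, ha1⟩ : ∃ a ∈ A, ∃ b ∈ B, a * b ∈ zc (S : Subgroup G) ∧ a ≠ 1 := by
    obtain ⟨z, hzV', hz, hz1⟩ : ∃ z ∈ V, z ∈ zc (S : Subgroup G) ∧ z ≠ 1 := by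
      by_contra hcon
      push Not at hcon
      refine hV1 (le_bot_iff.mp (h.gen ⊥ fun p _ z hz hz' => ?_))
      rw [mem_bot, hcon z hz hz']
      group
    have hzV : z ∈ ((A ⊔ B : Subgroup G) : Set G) := by
      rw [H.sup]; exact hzV'
    have hAB : A ≤ normalizer (B : Set G) := by
      refine le_trans ?_ (centralizer_le_normalizer _)
      exact H.A_le.trans (h.comm.trans (centralizer_le H.B_le))
    rw [coe_mul_of_left_le_normalizer_right _ _ hAB] at hzV
    obtain ⟨a, ha, b, hb, rfl⟩ := hzV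
    refine ⟨a, ha, b, hb, hz, ?_⟩
    rintro rfl
    apply hz1
    obtain ⟨s, hs, hsA, hsB⟩ := H.swap
    change (1 : G) * b ∈ _ at hz
    change (1 : G) * b = 1
    rw [one_mul] at hz ⊢
    have h1 := (ChoiceBase.mem_zc.1 hz).2.2 s hs
    have h2 : b ∈ A ⊓ B := by
      refine ⟨?_, hb⟩
      have h3 : s * b * s⁻¹ ∈ cj s B := ⟨b, hb, rfl⟩
      rw [hsB, h1] at h3
      have e : b * s * s⁻¹ = b := by group
      rwa [e] at h3
    rw [H.inf, mem_bot] at h2
    exact h2
  have haV := H.A_le ha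
  have hVc : ∀ v ∈ V, ∀ w ∈ V, v * w = w * v := fun v hv w hw =>
    mem_centralizer_iff.1 (h.comm hw) v hv
  -- `H₁ = C_G(a)`
  set H1 : Subgroup G := centralizer (zpowers a : Set G) with hH1
  have hmemH1 : ∀ g, g ∈ H1 ↔ g * a = a * g := by
    intro g
    rw [hH1, mem_centralizer_iff]
    constructor
    · intro hg
      exact (hg a (mem_zpowers a)).symm
    · intro hg y hy
      obtain ⟨k, rfl⟩ := mem_zpowers_iff.mp hy
      exact (Commute.zpow_right (show Commute g a from hg) k).symm.eq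
  have ha2 : IsPGroup 2 (zpowers a) := S.isPGroup'.to_le (zpowers_le.mpr (h.le haV))
  have hch : H1 ⊓ centralizer (o2 H1 : Set G) ≤ o2 H1 :=
    NOne.LemmaT.char2_centralizer h.char2 ha2 (by rw [Ne, zpowers_eq_bot]; exact ha1)
  have hVH1 : V ≤ H1 := fun v hv => (hmemH1 v).mpr (hVc v hv a haV)
  have hSoH1 : So ≤ H1 := by
    intro s hs
    rw [hmemH1]
    have h1 := (H.So_comm ha hb hz hs).1
    calc s * a = s * a * s⁻¹ * s := by group
      _ = a * s := by rw [h1]
  have hDH1 : P ⊓ centralizer (A : Set G) ≤ H1 := by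
    intro d hd
    rw [hmemH1]
    exact (mem_centralizer_iff.mp hd.2 a ha).symm
  have hFH1 : centralizer (FF : Set G) ≤ H1 := by
    intro g hg
    rw [hmemH1]
    exact (mem_centralizer_iff.mp hg a (hAF ha)).symm
  have hBF : B ≤ centralizer (FF : Set G) := H.B_le.trans hFV
  -- `R = O₂(H₁)`
  set R : Subgroup G := o2 H1 with hR
  have hR2 : IsPGroup 2 R := isPGroup_o2 H1
  have hRn : H1 ≤ normalizer (R : Set G) := le_normalizer_o2 H1
  have hRH : R ≤ H1 := o2_le H1
  -- `R ∩ ⟨So, D⟩ = R ∩ So`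
  set M1 : Subgroup G := So ⊔ (P ⊓ centralizer (A : Set G)) with hM1
  have hM1H : M1 ≤ H1 := sup_le hSoH1 hDH1
  have hN1 : M1 ≤ P ⊓ normalizer (A : Set G) := by
    refine sup_le (le_inf (H.So_le.trans h.par.le) H.So_A) ?_
    exact inf_le_inf_left P (centralizer_le_normalizer _)
  have hRM : R ⊓ M1 ≤ So := by
    have h1 : IsPGroup 2 (So ⊔ (R ⊓ M1) : Subgroup G) := by
      refine IsPGroup.to_sup_of_normal_right' (S.isPGroup'.to_le H.So_le) (hR2.to_le inf_le_left) ?_
      intro s hs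
      refine mem_normalizer_of_cj_le ?_
      rw [cj_inf, cj_eq_of_mem_normalizer (hRn (hSoH1 hs)),
        cj_eq_of_mem_normalizer (le_normalizer ((le_sup_left : So ≤ M1) hs))]
    have h2 : (So ⊔ (R ⊓ M1) : Subgroup G) ≤ P ⊓ normalizer (A : Set G) :=
      sup_le (le_sup_left.trans hN1) (inf_le_right.trans hN1)
    have h3 : (S : Subgroup G) ⊓ (P ⊓ normalizer (A : Set G)) ≤ So := by
      refine le_trans ?_ H.syl
      exact inf_le_inf_left _ inf_le_right
    have h4 := le_of_normal S h.par.le inf_le_left H.normal h1 h2 (h3.trans le_sup_left)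
    exact (le_inf ((le_sup_right : R ⊓ M1 ≤ So ⊔ (R ⊓ M1)).trans h4) (le_sup_right.trans (h2.trans inf_le_right))).trans H.syl
  have hRo : R ⊓ M1 = R ⊓ So := le_antisymm (le_inf inf_le_left hRM) (inf_le_inf_left _ le_sup_left)
  -- `D` normalises `R ∩ So`
  have hDRo : P ⊓ centralizer (A : Set G) ≤ normalizer ((R ⊓ So : Subgroup G) : Set G) := by
    intro d hd
    rw [← hRo]
    refine mem_normalizer_of_cj_le ?_
    rw [cj_inf, cj_eq_of_mem_normalizer (hRn (hDH1 hd)),
      cj_eq_of_mem_normalizer (le_normalizer ((le_sup_right : P ⊓ centralizer (A : Set G) ≤ M1) hd))]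
  -- the generation trick
  have hgen : ∀ Y : Subgroup G, P ⊓ centralizer (A : Set G) ≤ normalizer (Y : Set G) →
      (∀ a ∈ A, ∀ b ∈ B, a * b ∈ zc (S : Subgroup G) → ∀ y ∈ Y, y * b = b * y) → B ≤ centralizer (Y : Set G) := by
    intro Y hY hc
    refine (H.gen (B ⊓ centralizer (Y : Set G)) inf_le_left ?_ ?_).trans inf_le_right
    · intro d hd
      refine mem_normalizer_of_cj_le ?_
      rw [cj_inf, cj_eq_of_mem_normalizer (H.DB hd), cj_centralizer, cj_eq_of_mem_normalizer (hY hd)]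
    · intro a ha b hb hz
      exact ⟨hb, mem_centralizer_iff.mpr fun y hy => hc a ha b hb hz y hy⟩
  -- `R ∩ So` centralises `B`
  have hRoB : B ≤ centralizer ((R ⊓ So : Subgroup G) : Set G) := by
    refine hgen _ hDRo ?_
    intro a ha b hb hz y hy
    have h1 := (H.So_comm ha hb hz hy.2).2
    calc y * b = y * b * y⁻¹ * y := by group
      _ = b * y := by rw [h1]
  by_cases hcase : ∀ a ∈ A, ∀ b ∈ B, a * b ∈ zc (S : Subgroup G) → ∀ y ∈ R, y * b = b * y
  · -- `R` centralises the projection of `Z`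
    have h1 : B ≤ centralizer (R : Set G) := hgen R (hDH1.trans hRn) hcase
    have h2 : B ≤ o2 H1 := (le_inf (H.B_le.trans hVH1) h1).trans hch
    exact inf_o2_le hFH1 h2 hBF
  · push Not at hcase
    obtain ⟨a', ha', y, hy, hz', r₁, hr₁, hry⟩ := hcase
    have hyV := H.B_le hy
    have hyF : y ∈ FF := by
      have e : y = a'⁻¹ * (a' * y) := by group
      rw [e]
      exact FF.mul_mem (FF.inv_mem (hAF ha')) (hZF ⟨V.mul_mem (H.A_le ha') hyV, hz'⟩)
    -- `Y = C_G(a, y)`
    set Y : Subgroup G := H1 ⊓ centralizer (zpowers y : Set G) with hYd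
    have hmemY : ∀ g, g ∈ Y ↔ g ∈ H1 ∧ g * y = y * g := by
      intro g
      rw [hYd, mem_inf, mem_centralizer_iff]
      constructor
      · rintro ⟨h1, h2⟩
        exact ⟨h1, (h2 y (mem_zpowers y)).symm⟩
      · rintro ⟨h1, h2⟩
        refine ⟨h1, fun x hx => ?_⟩
        obtain ⟨k, rfl⟩ := mem_zpowers_iff.mp hx
        exact (Commute.zpow_right (show Commute g y from h2) k).symm.eq
    have hFY : centralizer (FF : Set G) ≤ Y := by
      intro g hg
      exact (hmemY g).mpr ⟨hFH1 hg, (mem_centralizer_iff.mp hg y hyF).symm⟩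
    have hBY : B ≤ Y := fun g hg => (hmemY g).mpr ⟨hVH1 (H.B_le hg), hVc g (H.B_le hg) y hyV⟩
    have hSoy : ∀ s ∈ So, s * y = y * s := by
      intro s hs
      have h1 := (H.So_comm ha' hy hz' hs).2
      calc s * y = s * y * s⁻¹ * s := by group
        _ = y * s := by rw [h1]
    -- index two
    have hQ2 : IsPGroup 2 (So ⊔ R : Subgroup G) :=
      IsPGroup.to_sup_of_normal_right' (S.isPGroup'.to_le H.So_le) hR2 (hSoH1.trans hRn)
    have hidx : ∀ u ∈ R, ∀ v ∈ R, u ∉ So → v ∉ So → u⁻¹ * v ∈ So := fun u hu v hv hu' hv' =>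
      mem_of_twoGroup S H.So_le H.index hQ2 le_sup_left (mem_sup_right hu) (mem_sup_right hv) hu' hv'
    have hr₁S : r₁ ∉ So := fun h1 => hry (hSoy r₁ h1)
    -- `R ∩ Y = R ∩ So`
    have hRY : R ⊓ Y = R ⊓ So := by
      refine le_antisymm ?_ (le_inf inf_le_left fun s hs => (hmemY s).mpr ⟨hSoH1 hs.2, hSoy s hs.2⟩)
      rintro r ⟨hr, hrY⟩
      refine ⟨hr, ?_⟩
      by_contra hrS
      have h1 := hidx r hr r₁ hr₁ hrS hr₁S
      have h2 := hSoy _ h1
      have h3 := ((hmemY r).mp hrY).2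
      apply hry
      calc r₁ * y = r * (r⁻¹ * r₁ * y) := by group
        _ = r * (y * (r⁻¹ * r₁)) := by rw [h2]
        _ = r * y * (r⁻¹ * r₁) := by group
        _ = y * r * (r⁻¹ * r₁) := by rw [h3]
        _ = y * r₁ := by group
    have hYR : Y ≤ normalizer (R : Set G) := inf_le_left.trans hRn
    have hYRo : Y ≤ normalizer ((R ⊓ So : Subgroup G) : Set G) := by
      intro g hg
      rw [← hRY]
      refine mem_normalizer_of_cj_le ?_
      rw [cj_inf, cj_eq_of_mem_normalizer (hYR hg), cj_eq_of_mem_normalizer (le_normalizer hg)]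
    -- the stabiliser of `R ≥ R ∩ So ≥ 1` in `Y`
    let K : Subgroup G :=
      { carrier := {g | g ∈ Y ∧ (∀ r ∈ R ⊓ So, g * r = r * g) ∧ ∀ r ∈ R, r⁻¹ * (g * r * g⁻¹) ∈ R ⊓ So}
        one_mem' := ⟨one_mem _, fun r _ => by rw [one_mul, mul_one], fun r _ => by simp⟩
        mul_mem' := by
          rintro g g' ⟨h1, h2, h3⟩ ⟨h1', h2', h3'⟩
          refine ⟨mul_mem h1 h1', fun r hr => by rw [mul_assoc, h2' r hr, ← mul_assoc, h2 r hr, mul_assoc], ?_⟩
          intro r hr
          have k1 := h3' r hr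
          have k2 := h2 _ k1
          have k3 := h3 r hr
          have e : r⁻¹ * (g * g' * r * (g * g')⁻¹) = r⁻¹ * (g * r * g⁻¹) * (r⁻¹ * (g' * r * g'⁻¹)) := by
            calc r⁻¹ * (g * g' * r * (g * g')⁻¹) = r⁻¹ * (g * r * (r⁻¹ * (g' * r * g'⁻¹)) * g⁻¹) := by group
              _ = r⁻¹ * (g * r * g⁻¹ * (g * (r⁻¹ * (g' * r * g'⁻¹)) * g⁻¹)) := by group
              _ = r⁻¹ * (g * r * g⁻¹ * ((r⁻¹ * (g' * r * g'⁻¹)) * g * g⁻¹)) := by rw [k2]
              _ = r⁻¹ * (g * r * g⁻¹) * (r⁻¹ * (g' * r * g'⁻¹)) := by group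
          rw [e]
          exact mul_mem k3 k1
        inv_mem' := by
          rintro g ⟨h1, h2, h3⟩
          have h2' : ∀ r ∈ R ⊓ So, g⁻¹ * r = r * g⁻¹ := fun r hr => by
            have := h2 r hr
            calc g⁻¹ * r = g⁻¹ * (r * g) * g⁻¹ := by group
              _ = g⁻¹ * (g * r) * g⁻¹ := by rw [this]
              _ = r * g⁻¹ := by group
          refine ⟨inv_mem h1, h2', ?_⟩
          intro r hr
          have k1 : g⁻¹ * r * g⁻¹⁻¹ ∈ R := (mem_normalizer_iff.mp (hYR (inv_mem h1)) r).mp hr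
          have k2 := h3 _ k1
          have e : (g⁻¹ * r * g⁻¹⁻¹)⁻¹ * (g * (g⁻¹ * r * g⁻¹⁻¹) * g⁻¹) = g⁻¹ * r⁻¹ * g * r := by group
          rw [e] at k2
          have k3 := inv_mem k2
          have k4 := h2' _ k3
          have e1 : r⁻¹ * (g⁻¹ * r * g⁻¹⁻¹) = (g⁻¹ * r⁻¹ * g * r)⁻¹ := by group
          rw [e1]
          exact k3 }
    have hKm : ∀ g, g ∈ K ↔ g ∈ Y ∧ (∀ r ∈ R ⊓ So, g * r = r * g) ∧ ∀ r ∈ R, r⁻¹ * (g * r * g⁻¹) ∈ R ⊓ So :=
      fun g => Iff.rfl
    have hKY : K ≤ Y := fun g hg => hg.1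
    have hYK : Y ≤ normalizer (K : Set G) := by
      intro x hx
      refine mem_normalizer_of_cj_le ?_
      rintro _ ⟨g, hg, rfl⟩
      obtain ⟨h1, h2, h3⟩ := (hKm g).mp hg
      change x * g * x⁻¹ ∈ K
      have hRo' : ∀ r ∈ R ⊓ So, x⁻¹ * r * x ∈ R ⊓ So := fun r hr =>
        (mem_normalizer_iff''.mp (hYRo hx) r).mp hr
      have hRo'' : ∀ r ∈ R ⊓ So, x * r * x⁻¹ ∈ R ⊓ So := fun r hr =>
        (mem_normalizer_iff.mp (hYRo hx) r).mp hr
      have hR' : ∀ r ∈ R, x⁻¹ * r * x ∈ R := fun r hr => (mem_normalizer_iff''.mp (hYR hx) r).mp hr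
      refine (hKm _).mpr ⟨mul_mem (mul_mem hx h1) (inv_mem hx), ?_, ?_⟩
      · intro r hr
        have k := h2 _ (hRo' r hr)
        calc x * g * x⁻¹ * r = x * (g * (x⁻¹ * r * x)) * x⁻¹ := by group
          _ = x * (x⁻¹ * r * x * g) * x⁻¹ := by rw [k]
          _ = r * (x * g * x⁻¹) := by group
      · intro r hr
        have k := hRo'' _ (h3 _ (hR' r hr))
        have e : x * ((x⁻¹ * r * x)⁻¹ * (g * (x⁻¹ * r * x) * g⁻¹)) * x⁻¹ =
            r⁻¹ * (x * g * x⁻¹ * r * (x * g * x⁻¹)⁻¹) := by group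
        rwa [e] at k
    have hK2 : IsPGroup 2 K := by
      -- `g ^ 2 ^ m` centralises `R`
      obtain ⟨m, hm⟩ := IsPGroup.iff_card.mp ((S.isPGroup'.to_le H.So_le).to_le (inf_le_right : R ⊓ So ≤ So))
      have hpow : ∀ g ∈ K, ∀ k : ℕ, ∀ r ∈ R, g ^ k * r * (g ^ k)⁻¹ = r * (r⁻¹ * (g * r * g⁻¹)) ^ k := by
        intro g hg k
        obtain ⟨h1, h2, h3⟩ := (hKm g).mp hg
        induction k with
        | zero => intro r hr; simp
        | succ k ih =>
          intro r hr
          have k1 := h3 r hr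
          have k2 : g * (r⁻¹ * (g * r * g⁻¹)) ^ k = (r⁻¹ * (g * r * g⁻¹)) ^ k * g :=
            h2 _ (pow_mem k1 k)
          have k4 : ∀ w : G, g * w = w * g → g * (r * w) * g⁻¹ = r * ((r⁻¹ * (g * r * g⁻¹)) * w) := by
            intro w hw
            calc g * (r * w) * g⁻¹ = (g * r * g⁻¹) * (g * w) * g⁻¹ := by group
              _ = (g * r * g⁻¹) * (w * g) * g⁻¹ := by rw [hw]
              _ = r * ((r⁻¹ * (g * r * g⁻¹)) * w) := by group
          calc g ^ (k + 1) * r * (g ^ (k + 1))⁻¹ = g * (g ^ k * r * (g ^ k)⁻¹) * g⁻¹ := by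
                rw [pow_succ']; group
            _ = g * (r * (r⁻¹ * (g * r * g⁻¹)) ^ k) * g⁻¹ := by rw [ih r hr]
            _ = r * ((r⁻¹ * (g * r * g⁻¹)) * (r⁻¹ * (g * r * g⁻¹)) ^ k) := k4 _ k2
            _ = r * (r⁻¹ * (g * r * g⁻¹)) ^ (k + 1) := by rw [pow_succ']
      rintro ⟨g, hg⟩
      have hgH : g ^ 2 ^ m ∈ H1 := pow_mem ((hKm g).mp hg).1.1 _
      have hgc : g ^ 2 ^ m ∈ centralizer (R : Set G) := by
        rw [mem_centralizer_iff]
        intro r hr
        have k1 := hpow g hg (2 ^ m) r hr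
        have k2 : (r⁻¹ * (g * r * g⁻¹)) ^ 2 ^ m = 1 := by
          rw [← hm]
          have k3 := ((hKm g).mp hg).2.2 r hr
          have k4 : (⟨r⁻¹ * (g * r * g⁻¹), k3⟩ : ↥(R ⊓ So)) ^ Nat.card ↥(R ⊓ So) = 1 := pow_card_eq_one'
          exact congrArg Subtype.val k4
        rw [k2, mul_one] at k1
        calc r * g ^ 2 ^ m = g ^ 2 ^ m * r * (g ^ 2 ^ m)⁻¹ * g ^ 2 ^ m := by rw [k1]
          _ = g ^ 2 ^ m * r := by group
      have hgR : g ^ 2 ^ m ∈ R := hch ⟨hgH, hgc⟩
      obtain ⟨k, hk⟩ := hR2 ⟨_, hgR⟩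
      refine ⟨m + k, ?_⟩
      have hk' : (g ^ 2 ^ m) ^ 2 ^ k = 1 := congrArg Subtype.val hk
      ext
      rw [← pow_mul, ← pow_add] at hk'
      exact hk'
    have hBK : B ≤ K := by
      intro c hc
      have hcr : ∀ r ∈ R ⊓ So, c * r = r * c := fun r hr => (mem_centralizer_iff.mp (hRoB hc) r hr).symm
      refine (hKm c).mpr ⟨hBY hc, hcr, ?_⟩
      intro r hr
      have hcR : c * r * c⁻¹ ∈ R := (mem_normalizer_iff.mp (hYR (hBY hc)) r).mp hr
      by_cases hrS : r ∈ So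
      · have k1 := hcr r ⟨hr, hrS⟩
        have e : r⁻¹ * (c * r * c⁻¹) = 1 := by rw [k1]; group
        rw [e]; exact one_mem _
      · have hcS : c * r * c⁻¹ ∉ So := by
          intro hcS
          have k1 := hcr _ ⟨hcR, hcS⟩
          apply hrS
          have k2 : c * r * c⁻¹ = r := by
            have k3 : c * (c * r * c⁻¹) = c * r := by rw [k1]; group
            exact mul_left_cancel k3
          rwa [k2] at hcS
        exact ⟨R.mul_mem (R.inv_mem hr) hcR, hidx r hr _ hcR hrS hcS⟩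
    have hKo : B ≤ o2 Y := hBK.trans (le_o2 hKY hK2 hYK)
    exact inf_o2_le hFY hKo hBF

end Cfsg.Agent.Omega.NO1.WRF.Single

end

private theorem dce_2acd49ea087b : _root_.True := by
  try have : _root_.True := by simp only [_root_.Cfsg.Agent.Omega.NO1.JMin.KK.eq_1]
  exact _root_.True.intro
end

-- part: Mrg/Omega/NO1/Sym/EndOne
section
prune_inst 0x10000100442200000000000000002000200000020000000030000302020e13018000010170201a000100222000080008129800490000000000000200000100208008400002000004040001807802000000000000000000000000000000041000000000000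
set_option linter.all false
open scoped Cfsg.Agent.FastGrp

-- merged: Cfsg.Agent.Mrg.Omega.NO1.Sym.Frame
section

section


/-!
# Sums of even-subset modules: the frame (project OMEGA, N1, `SymAll`)

* `mem_of_pairs` : the vectors of `V` are products of pairs `{p, q}`;
* `const_mem_D` : in a frame at `v = {(i,0), a}` every vector which is constant on the points `(j, x)`, `x ≠ 0`, of
  every block and zero at the points `(j, 0)`, lies in `D`.
-/

set_option autoImplicit false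

namespace Cfsg.Agent.Omega.NO1.Sym

open Subgroup Cfsg Cfsg.Agent.ZN Cfsg.Agent.Omega.FFThm Cfsg.Agent.Omega.Half
open Cfsg.Agent.Omega.NOne.NearFF

universe u

variable {G : Type u} [Group G] {T H V : Subgroup G} {k m : ℕ}

section pairs

variable (M : SymK T H V ⊥ k m)

theorem ne_zero_iff (a : ZMod 2) : a ≠ 0 ↔ a = 1 := by
  revert a
  decide

/-- `u` has the coordinates of the pair `{p, q}`. -/
def IsPair (p q : Pt k m) (u : G) : Prop := u ∈ V ∧ ∀ r, co M u r = if r = p ∨ r = q then 1 else 0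

variable {M}

theorem IsPair.symm {p q : Pt k m} {u : G} (h : IsPair M p q u) : IsPair M q p u :=
  ⟨h.1, fun r => by rw [h.2]; simp only [or_comm]⟩

theorem IsPair.conj {p q : Pt k m} {u : G} (h : IsPair M p q u) (hA : Amb T H V) {g : G} (hg : g ∈ H) :
    IsPair M (rp M g p) (rp M g q) (g * u * g⁻¹) := by
  refine ⟨hA.conj_mem hg h.1, fun r => ?_⟩
  obtain ⟨s, rfl⟩ := (rp M g).surjective r
  rw [co_rp M hg h.1, h.2]
  simp only [(rp M g).injective.eq_iff]

theorem IsPair.unique {p q : Pt k m} {u u' : G} (h : IsPair M p q u) (h' : IsPair M p q u') : u = u' :=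
  ext_co M h.1 h'.1 fun r => by rw [h.2, h'.2]

variable (M)

/-- Every vector is a product of pairs of points of its support. -/
theorem mem_of_pairs {E : Subgroup G} {Good : Pt k m → Prop}
    (hE : ∀ p q : Pt k m, p.1 = q.1 → p ≠ q → Good p → Good q → ∀ u, IsPair M p q u → u ∈ E)
    {w : G} (hw : w ∈ V) (hg : ∀ p, co M w p ≠ 0 → Good p) : w ∈ E := by
  classical
  suffices key : ∀ n : ℕ, ∀ w ∈ V, (Finset.univ.filter fun p => co M w p ≠ 0).card = n →
      (∀ p, co M w p ≠ 0 → Good p) → w ∈ E from key _ w hw rfl hg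
  intro n
  induction n using Nat.strong_induction_on with
  | _ n ih =>
    intro w hw hn hg
    by_cases h0 : ∀ p, co M w p = 0
    · rw [eq_one_of_co M hw h0]
      exact one_mem E
    · push Not at h0
      obtain ⟨p, hp⟩ := h0
      have hq : ∃ q : Pt k m, q.1 = p.1 ∧ q ≠ p ∧ co M w q ≠ 0 := by
        by_contra hcon
        push Not at hcon
        have h1 := sum_co M hw p.1
        rw [Finset.sum_eq_single p.2 (fun x _ hx => hcon (p.1, x) rfl fun h => hx (congrArg Prod.snd h))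
          fun h => absurd (Finset.mem_univ _) h] at h1
        exact hp h1
      obtain ⟨q, hq1, hq2, hq3⟩ := hq
      obtain ⟨u, hu, hu'⟩ := exists_pair M hq1.symm (Ne.symm hq2)
      have huE : u ∈ E := hE p q hq1.symm (Ne.symm hq2) (hg p hp) (hg q hq3) u ⟨hu, hu'⟩
      have hco : ∀ r, co M (w * u) r ≠ 0 ↔ (co M w r ≠ 0 ∧ r ≠ p ∧ r ≠ q) := by
        intro r
        rw [co_mul M hw hu, hu']
        by_cases hr : r = p ∨ r = q
        · rw [if_pos hr]
          have h1 : co M w r = 1 := by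
            rcases hr with rfl | rfl
            · exact (ne_zero_iff _).1 hp
            · exact (ne_zero_iff _).1 hq3
          rw [h1, CharTwo.add_self_eq_zero]
          refine iff_of_false (fun h => h rfl) ?_
          rintro ⟨-, h2, h3⟩
          exact hr.elim h2 h3
        · rw [if_neg hr, add_zero]
          rw [not_or] at hr
          exact ⟨fun h => ⟨h, hr.1, hr.2⟩, fun h => h.1⟩
      have h2 : w * u ∈ E := by
        refine ih _ ?_ (w * u) (mul_mem hw hu) rfl fun r hr => hg r ((hco r).1 hr).1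
        rw [← hn]
        refine Finset.card_lt_card ?_
        rw [Finset.ssubset_iff_of_subset]
        · refine ⟨p, ?_, ?_⟩
          · rw [Finset.mem_filter]
            exact ⟨Finset.mem_univ _, hp⟩
          · rw [Finset.mem_filter, hco]
            exact fun h => h.2.2.1 rfl
        · intro r hr
          rw [Finset.mem_filter] at hr ⊢
          exact ⟨hr.1, ((hco r).1 hr.2).1⟩
      have h3 : w = w * u * u⁻¹ := by group
      rw [h3]
      exact mul_mem h2 (inv_mem huE)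

end pairs

variable {M : SymK T H V ⊥ k m} {hm : 2 ≤ m} {hA : Amb T H V} {Q : Subgroup G}

namespace QSit

variable (h : QSit M hm hA Q)
include h

theorem invol' {q : G} (hq : q ∈ Q) (p : Pt k m) : rp M q (rp M q p) = p := by
  by_cases hp : p.2 = 0
  · rw [h.fix_zero hq hp, h.fix_zero hq hp]
  · exact h.invol hq hp

/-- Coordinates of commutators. -/
theorem co_c {u f : G} (hu : u ∈ V) (hf : f ∈ Q) (r : Pt k m) :
    co M (c u f) r = co M u r + co M u (rp M f r) := by
  have hfH := h.Q_le_H hf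
  have h1 : f * u * f⁻¹ ∈ V := hA.conj_mem hfH hu
  have e : c u f = u * (f * u * f⁻¹)⁻¹ := by rw [c]; group
  rw [e, co_mul M hu (inv_mem h1), co_inv M h1]
  have h2 := co_rp M hfH hu (rp M f r)
  rw [h.invol' hf] at h2
  rw [h2]

/-- `[v, f]` for `v = {(i,0), a}` -/
theorem co_c_pair {z a : Pt k m} (hz : z.2 = 0) {v f : G} (hv : IsPair M z a v) (hza : z ≠ a) (hf : f ∈ Q)
    (r : Pt k m) : co M (c v f) r = (if r = a then 1 else 0) + (if r = rp M f a then 1 else 0) := by
  rw [h.co_c hv.1 hf, hv.2, hv.2]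
  have e1 : rp M f r = z ↔ r = z := by
    constructor
    · intro h1
      rw [← h.invol' hf r, h1, h.fix_zero hf hz]
    · rintro rfl
      exact h.fix_zero hf hz
  have e2 : rp M f r = a ↔ r = rp M f a := by
    constructor
    · intro h1
      rw [← h1, h.invol' hf]
    · rintro rfl
      exact h.invol' hf a
  simp only [e1, e2]
  by_cases h1 : r = z
  · have h2 : r ≠ a := fun h2 => hza (h1.symm.trans h2)
    have h3 : r ≠ rp M f a := by
      intro h3
      apply h2
      rw [h1] at h3 ⊢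
      rw [← h.invol' hf a, ← h3, h.fix_zero hf hz]
    rw [if_pos (Or.inl h1), if_pos (Or.inl h1), if_neg h2, if_neg h3, add_zero, CharTwo.add_self_eq_zero]
  · simp only [h1, false_or]

/-- **The frame at `v = {(i,0), a}`**: `D` contains all vectors constant on the blocks. -/
theorem const_mem_D [Finite G] {z a : Pt k m} (hz : z.2 = 0) (hza1 : z.1 = a.1) (ha : a.2 ≠ 0) {v : G}
    (hv : IsPair M z a v) {D F : Subgroup G} (hn : Near V (V ⊓ Q) D F v) (hFQ : F ≤ Q) (hne : D ≠ V ⊓ Q)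
    (hpairs : ∀ p q : Pt k m, p.1 = q.1 → p.2 ≠ 0 → q.2 ≠ 0 → p ≠ q → ∀ u, IsPair M p q u → u ∈ V ⊓ Q)
    {w : G} (hw : w ∈ V) (hw0 : ∀ p : Pt k m, p.2 = 0 → co M w p = 0)
    (hwc : ∀ p q : Pt k m, p.1 = q.1 → p.2 ≠ 0 → q.2 ≠ 0 → co M w p = co M w q) : w ∈ D := by
  classical
  have h5 := five_le hm
  have hza : z ≠ a := fun h => ha (by rw [← h]; exact hz)
  have pick : ∀ (i : Fin k) (x y : Fin (2 ^ m + 1)), ∃ p : Pt k m, p.1 = i ∧ p.2 ≠ 0 ∧ p.2 ≠ x ∧ p.2 ≠ y := by
    intro i x y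
    have hc : ({0, x, y} : Finset (Fin (2 ^ m + 1))).card < (Finset.univ : Finset (Fin (2 ^ m + 1))).card := by
      rw [Finset.card_univ, Fintype.card_fin]
      exact lt_of_le_of_lt Finset.card_le_three (by omega)
    obtain ⟨y', -, hy⟩ := Finset.exists_mem_notMem_of_card_lt_card hc
    simp only [Finset.mem_insert, Finset.mem_singleton, not_or] at hy
    exact ⟨(i, y'), rfl, hy.1, hy.2.1, hy.2.2⟩
  -- elements of `D` are fixed by `F`
  have hDfix : ∀ d ∈ D, ∀ f ∈ F, ∀ p, co M d (rp M f p) = co M d p := by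
    intro d hd f hf p
    have h1 := co_rp M (h.Q_le_H (hFQ hf)) (hn.DV hd) p
    have h2 : f * d * f⁻¹ = d := by rw [← hn.Dcent hd hf, mul_inv_cancel_right]
    rwa [h2] at h1
  -- `F` is not trivial on `a`
  have hF1 : ∃ f ∈ F, rp M f a ≠ a := by
    by_contra hcon
    push Not at hcon
    apply hne
    refine le_antisymm hn.DE fun e he => ?_
    obtain ⟨f, hf, hd⟩ := hn.surj he
    have h1 : c v f = 1 := by
      refine eq_one_of_co M (hn.c_memV hn.vV hf) fun r => ?_
      rw [h.co_c_pair hz hv hza (hFQ hf), hcon f hf, CharTwo.add_self_eq_zero]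
    rw [h1, one_mul] at hd
    exact inv_mem_iff.1 hd
  -- there are two different images
  have hF2 : ∀ b : Pt k m, ∃ f ∈ F, rp M f a ≠ a ∧ rp M f a ≠ b := by
    intro b
    by_contra hcon
    push Not at hcon
    obtain ⟨f1, hf1, h1⟩ := hF1
    have h1b : rp M f1 a = b := hcon f1 hf1 h1
    have hb1 : b.1 = a.1 := by rw [← h1b]; exact h.fst_eq (hFQ hf1) a
    have hb2 : b.2 ≠ 0 := by rw [← h1b]; exact h.snd_ne (hFQ hf1) ha
    obtain ⟨x, hx1, hx0, hxa, hxb⟩ := pick a.1 a.2 b.2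
    have hxa' : x ≠ a := fun h => hxa (congrArg Prod.snd h)
    have hxb' : x ≠ b := fun h => hxb (congrArg Prod.snd h)
    obtain ⟨e, he, he'⟩ := exists_pair M hx1.symm (Ne.symm hxa')
    have heE : e ∈ V ⊓ Q := hpairs a x hx1.symm ha hx0 (Ne.symm hxa') e ⟨he, he'⟩
    obtain ⟨f', hf', hd⟩ := hn.surj heE
    have hco : ∀ r, co M (c v f' * e⁻¹) r = ((if r = a then 1 else 0) + (if r = rp M f' a then 1 else 0)) +
        (if r = a ∨ r = x then 1 else 0) := by
      intro r
      rw [co_mul M (hn.c_memV hn.vV hf') (inv_mem he), co_inv M he, he', h.co_c_pair hz hv hza (hFQ hf')]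
    have h2 := hDfix _ hd f1 hf1 a
    rw [h1b, hco, hco] at h2
    have hab : a ≠ b := fun h2 => h1 (h1b.trans h2.symm)
    by_cases h3 : rp M f' a = a
    · rw [h3] at h2
      simp only [if_true, if_neg (Ne.symm hab), true_or, Ne.symm hab, Ne.symm hxb', or_self, if_false, zero_add,
        CharTwo.add_self_eq_zero] at h2
      exact zero_ne_one h2
    · have h4 : rp M f' a = b := hcon f' hf' h3
      rw [h4] at h2
      simp only [if_true, if_neg (Ne.symm hab), true_or, Ne.symm hab, Ne.symm hxb', hab, or_self, if_false, zero_add,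
        add_zero, CharTwo.add_self_eq_zero] at h2
      exact one_ne_zero h2
  -- the end
  have hwE : w ∈ V ⊓ Q := by
    refine mem_of_pairs M (Good := fun p => p.2 ≠ 0) (fun p q h1 h2 h3 h4 u hu => hpairs p q h1 h3 h4 h2 u hu) hw ?_
    intro p hp h0
    exact hp (hw0 p h0)
  obtain ⟨f, hf, hd⟩ := hn.surj hwE
  by_cases h1 : rp M f a = a
  · have h2 : c v f = 1 := by
      refine eq_one_of_co M (hn.c_memV hn.vV hf) fun r => ?_
      rw [h.co_c_pair hz hv hza (hFQ hf), h1, CharTwo.add_self_eq_zero]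
    rw [h2, one_mul] at hd
    exact inv_mem_iff.1 hd
  · exfalso
    obtain ⟨f', hf', h2, h3⟩ := hF2 (rp M f a)
    have h4 := hDfix _ hd f' hf' a
    have hco : ∀ r, co M (c v f * w⁻¹) r = ((if r = a then 1 else 0) + (if r = rp M f a then 1 else 0)) +
        co M w r := by
      intro r
      rw [co_mul M (hn.c_memV hn.vV hf) (inv_mem hw), co_inv M hw, h.co_c_pair hz hv hza (hFQ hf)]
    rw [hco, hco, if_neg h2, if_neg h3, if_pos rfl, if_neg (Ne.symm h1), add_zero, zero_add,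
      hwc _ a (h.fst_eq (hFQ hf') a) (h.snd_ne (hFQ hf') ha) ha, add_zero] at h4
    exact one_ne_zero (right_eq_add.1 h4)

end QSit

end Cfsg.Agent.Omega.NO1.Sym

end

section


/-!
# N1, sums of even-subset modules: `E`, and the frame at a pair (project OMEGA, N1, `SymAll`)

* `pair_mem` : all pairs of points `(i, x), (i, y)`, `x, y ≠ 0`, lie in `E = V ∩ Q`, and `m = 2`;
* `exists_v` : some pair `v = {(i, 0), a}` is not in `Q`;
* `not_mem_of_frame` : `v ∉ R` for every 2-group `R` normalised by `X` in a frame at `v`;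
* `not_mem_o2` : `v ∉ O₂(C_G(w))` for every vector `w` which is constant on the points `(j, x)`, `x ≠ 0`, of every
  block and zero at the points `(j, 0)`.
-/

set_option autoImplicit false

namespace Cfsg.Agent.Omega.NO1.Sym

open Subgroup Cfsg Cfsg.Agent.ZN Cfsg.Agent.Omega.FFThm Cfsg.Agent.Omega.Half Cfsg.Agent.Omega.NO1
open Cfsg.Agent.Omega.NOne.NearFF
open Cfsg.Agent.Omega.NoFF.LinesPlug (CC)
open Cfsg.Agent.MinSimple.VModule (o2_isPGroup)
open scoped Pointwise

universe u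

section generic

variable {G : Type u} [Group G]

theorem conj_mem_smul {g x : G} {A : Subgroup G} (h : x ∈ A) : g * x * g⁻¹ ∈ MulAut.conj g • A :=
  NOne.Frame.conj_mem h

theorem le_normalizer_sup {K A B : Subgroup G} (hA : K ≤ normalizer (A : Set G))
    (hB : K ≤ normalizer (B : Set G)) : K ≤ normalizer ((A ⊔ B : Subgroup G) : Set G) := by
  have key : ∀ x ∈ K, MulAut.conj x • (A ⊔ B) ≤ A ⊔ B := by
    intro x hx
    rw [Subgroup.smul_sup]
    refine sup_le_sup ?_ ?_
    · intro y hy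
      obtain ⟨z, hz, rfl⟩ := NOne.Frame.mem_conj'.1 hy
      exact (mem_normalizer_iff.1 (hA hx) z).1 hz
    · intro y hy
      obtain ⟨z, hz, rfl⟩ := NOne.Frame.mem_conj'.1 hy
      exact (mem_normalizer_iff.1 (hB hx) z).1 hz
  intro x hx
  rw [mem_normalizer_iff]
  intro y
  refine ⟨fun hy => key x hx (conj_mem_smul hy), fun hy => ?_⟩
  have := key x⁻¹ (inv_mem hx) (conj_mem_smul hy)
  have e : x⁻¹ * (x * y * x⁻¹) * x⁻¹⁻¹ = y := by group
  rwa [e] at this

/-- `v ∉ R` if `R` is a 2-group normalised by the non-2-group `X` of a frame at `v`. -/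
theorem not_mem_of_frame {V Q R : Subgroup G} {v g : G} (hfr : NOne.Frame.Fr (V1 V Q v) Q g)
    (hX : ¬ IsPGroup 2 (NOne.Frame.X (V1 V Q v) g)) (hQ : IsPGroup 2 Q) (hR : IsPGroup 2 R)
    (hXR : NOne.Frame.X (V1 V Q v) g ≤ normalizer (R : Set G)) : v ∉ R := by
  intro hv
  apply hX
  set X := NOne.Frame.X (V1 V Q v) g with hXdef
  set W := NOne.Frame.W (V1 V Q v) Q g with hWdef
  have hWX : W ≤ X := sup_le (inf_le_left.trans le_sup_left)
    ((NOne.Frame.Fr.E'_le_V').trans le_sup_right)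
  have hW2 : IsPGroup 2 W := hQ.to_le hfr.W_le_Q
  have hXRX : X ≤ normalizer ((R ⊓ X : Subgroup G) : Set G) := by
    intro x hx
    have h1 := mem_normalizer_iff.1 (hXR hx)
    have h2 : x ∈ normalizer (X : Set G) := le_normalizer hx
    have h3 := mem_normalizer_iff.1 h2
    rw [mem_normalizer_iff]
    exact fun y => and_congr (h1 y) (h3 y)
  have hRX2 : IsPGroup 2 (R ⊓ X : Subgroup G) := hR.to_le inf_le_left
  have hN2 : IsPGroup 2 (W ⊔ (R ⊓ X) : Subgroup G) := hW2.to_sup_of_normal_right' hRX2 (hWX.trans hXRX)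
  have hXN : X ≤ normalizer ((W ⊔ (R ⊓ X) : Subgroup G) : Set G) := le_normalizer_sup hfr.X_norm_W hXRX
  have hvV : v ∈ V1 V Q v := mem_sup_right (mem_zpowers v)
  have hvX : v ∈ X := mem_sup_left hvV
  have hv' : g * v * g⁻¹ ∈ X := mem_sup_right (conj_mem_smul hvV)
  have hz2 : IsPGroup 2 (zpowers (g * v * g⁻¹)) := by
    have h1 : IsPGroup 2 (MulAut.conj g • R : Subgroup G) := hR.map _
    exact h1.to_le (zpowers_le.2 (conj_mem_smul hv))
  have hfin : IsPGroup 2 (zpowers (g * v * g⁻¹) ⊔ (W ⊔ (R ⊓ X)) : Subgroup G) :=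
    hz2.to_sup_of_normal_right' hN2 (zpowers_le.2 (hXN hv'))
  refine hfin.to_le ?_
  have e1 : V ⊓ Q ≤ W := by
    refine le_trans ?_ le_sup_left
    exact le_inf le_sup_left inf_le_right
  have e2 : MulAut.conj g • (V ⊓ Q) ≤ W := by
    refine le_trans ?_ le_sup_right
    intro y hy
    obtain ⟨z, hz, rfl⟩ := NOne.Frame.mem_conj'.1 hy
    exact conj_mem_smul ⟨mem_sup_left hz, hz.2⟩
  have hWf : W ≤ zpowers (g * v * g⁻¹) ⊔ (W ⊔ (R ⊓ X)) := le_trans le_sup_left le_sup_right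
  refine sup_le (sup_le (e1.trans hWf) (zpowers_le.2 ?_)) ?_
  · exact mem_sup_right (mem_sup_right ⟨hv, hvX⟩)
  · have e3 : MulAut.conj g • (V1 V Q v) = MulAut.conj g • (V ⊓ Q) ⊔ MulAut.conj g • zpowers v :=
      Subgroup.smul_sup _ _ _
    rw [e3]
    refine sup_le (e2.trans hWf) ?_
    intro y hy
    obtain ⟨z, hz, rfl⟩ := NOne.Frame.mem_conj'.1 hy
    obtain ⟨n, rfl⟩ := mem_zpowers_iff.1 hz
    refine mem_sup_left ?_
    rw [← conj_zpow]
    exact zpow_mem (mem_zpowers _) n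

end generic

variable {G : Type u} [Group G] [Finite G] {S : Sylow 2 G} {P : Subgroup G} (h : Cfg S P) {k m : ℕ}
variable (M : SymK (S : Subgroup G) P (zl (S : Subgroup G) P) ⊥ k m) (hm : 2 ≤ m)

theorem amb {S : Sylow 2 G} {P : Subgroup G} (h : Cfg S P) :
    Amb (S : Subgroup G) P (zl (S : Subgroup G) P) := amb_of_loc h.ctx.char2 S h.loc

include h in
theorem H0_le_CC : H0 M (by omega) (amb h) ≤ CC (S : Subgroup G) := by
  intro g hg
  refine mem_centralizer_iff.2 fun w hw => ?_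
  exact (H0_comm M (by omega) (amb h) S.isPGroup' (MinSimple.Basic.not_dvd_relIndex S h.S_le) hw hg).symm

theorem qsit : QSit M hm (amb h) (o2 (CC (S : Subgroup G))) where
  le := h.Q_le_S
  two := S.isPGroup'
  norm g hg q hq := (mem_normalizer_iff.1 (le_normalizer_o2 _ (H0_le_CC h M hm hg)) q).1 hq

include h hm in
/-- `Q` does not centralise `V`. -/
theorem exists_moved : ∃ q ∈ o2 (CC (S : Subgroup G)), ∃ p, rp M q p ≠ p := by
  by_contra hcon
  push Not at hcon
  apply h.one.not_le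
  intro v hv
  refine h.char2C ⟨h.V_le_CC hv, mem_centralizer_iff.2 fun q hq => ?_⟩
  have h1 : rp M q = 1 := Equiv.ext fun p => hcon q hq p
  exact (rp_eq_one_iff M (by omega) (amb h) ((qsit h M hm).Q_le_H hq)).1 h1 v hv

include h M hm in
theorem m_eq_two : m = 2 := by
  obtain ⟨q, hq, p, hp⟩ := exists_moved h M hm
  exact (qsit h M hm).eq_two hq hp

include h hm in
/-- All pairs of points `(i, x), (i, y)`, `x, y ≠ 0`, lie in `E`. -/
theorem pair_mem {p q : Pt k m} (h1 : p.1 = q.1) (hp : p.2 ≠ 0) (hq : q.2 ≠ 0) (hne : p ≠ q) {u : G}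
    (hu : IsPair M p q u) : u ∈ zl (S : Subgroup G) P ⊓ o2 (CC (S : Subgroup G)) := by
  classical
  have hm1 : 1 ≤ m := by omega
  have qs := qsit h M hm
  have hA := amb h
  obtain ⟨y, hy, a, ha⟩ := exists_moved h M hm
  have ha0 : a.2 ≠ 0 := fun h0 => ha (qs.fix_zero hy h0)
  -- one pair
  have hz : ((a.1, 0) : Pt k m) ≠ a := fun h0 => ha0 (congrArg Prod.snd h0).symm
  obtain ⟨v, hv, hv'⟩ := exists_pair M (p := (a.1, 0)) (q := a) rfl hz
  have hc1 : IsPair M a (rp M y a) (c v y) := by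
    have hyV : y ∈ normalizer (zl (S : Subgroup G) P : Set G) := h.Q_norm_V hy
    refine ⟨?_, fun r => ?_⟩
    · have e : c v y = v * (y * v⁻¹ * y⁻¹) := by rw [c]; group
      rw [e]
      exact mul_mem hv ((mem_normalizer_iff.1 hyV _).1 (inv_mem hv))
    · rw [qs.co_c_pair rfl ⟨hv, hv'⟩ hz hy]
      by_cases h2 : r = a
      · have h3 : r ≠ rp M y a := fun h3 => ha (h3.symm.trans h2)
        rw [if_pos h2, if_neg h3, if_pos (Or.inl h2), add_zero]
      · by_cases h3 : r = rp M y a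
        · rw [if_neg h2, if_pos h3, if_pos (Or.inr h3), zero_add]
        · rw [if_neg h2, if_neg h3, if_neg (not_or.2 ⟨h2, h3⟩), add_zero]
  have hc2 : c v y ∈ o2 (CC (S : Subgroup G)) := by
    have hvC := le_normalizer_o2 _ (h.V_le_CC hv)
    exact mul_mem ((mem_normalizer_iff.1 hvC _).1 hy) (inv_mem hy)
  -- conjugation
  obtain ⟨t, ht, htp⟩ := exists_T M hm1 hA S.isPGroup' (MinSimple.Basic.not_dvd_relIndex S h.S_le) ha0 hp
  have ht0 := T_le_H0 M hm1 hA ht
  set b := rp M t (rp M y a) with hb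
  have hb1 : b.1 = p.1 := by
    rw [hb, ← htp]
    exact (rp_fst_eq M (hA.TH ht)).2 (qs.fst_eq hy a)
  have hb0 : b.2 ≠ 0 := fun h0 => qs.snd_ne hy ha0 ((ht0.2 _).1 h0)
  have hbp : b ≠ p := by
    intro h2
    rw [hb, ← htp] at h2
    exact ha ((rp M t).injective h2)
  obtain ⟨g, hg, hg'⟩ := exists_swap0 M hm1 hA (hb1.trans h1) hb0 hq
  have hgt : g * t ∈ H0 M hm1 hA := mul_mem hg ht0
  have h3 := hc1.conj hA hgt.1
  have e1 : rp M (g * t) a = p := by
    rw [rp_mul M hm1 hA hg.1 (hA.TH ht), Equiv.Perm.mul_apply, htp, hg',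
      Equiv.swap_apply_of_ne_of_ne (Ne.symm hbp) hne]
  have e2 : rp M (g * t) (rp M y a) = q := by
    rw [rp_mul M hm1 hA hg.1 (hA.TH ht), Equiv.Perm.mul_apply, ← hb, hg', Equiv.swap_apply_left]
  rw [e1, e2] at h3
  rw [hu.unique h3]
  exact ⟨h3.1, qs.norm _ hgt _ hc2⟩

include h hm in
/-- Some pair `{(i, 0), a}` is not in `Q`. -/
theorem exists_v : ∃ a : Pt k m, a.2 ≠ 0 ∧ ∃ v, IsPair M (a.1, 0) a v ∧ v ∉ o2 (CC (S : Subgroup G)) := by
  by_contra hcon
  push Not at hcon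
  apply h.one.not_le
  intro w hw
  refine mem_of_pairs M (Good := fun _ => True) (fun p q h1 hne _ _ u hu => ?_) hw fun _ _ => trivial
  by_cases hp : p.2 = 0
  · have hq : q.2 ≠ 0 := fun hq => hne (Prod.ext h1 (hp.trans hq.symm))
    refine hcon q hq u ?_
    have e : p = (q.1, 0) := Prod.ext h1 hp
    rwa [← e]
  · by_cases hq : q.2 = 0
    · refine hcon p hp u ?_
      have e : q = (p.1, 0) := Prod.ext h1.symm hq
      rw [← e]
      exact hu.symm
    · exact (pair_mem h M hm h1 hp hq hne hu).2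

/-- `w` is constant on the points `(j, x)`, `x ≠ 0`, of every block and zero at the points `(j, 0)`. -/
def Const (M : SymK (S : Subgroup G) P (zl (S : Subgroup G) P) ⊥ k m) (w : G) : Prop :=
  w ∈ zl (S : Subgroup G) P ∧ (∀ p : Pt k m, p.2 = 0 → co M w p = 0) ∧
    ∀ p q : Pt k m, p.1 = q.1 → p.2 ≠ 0 → q.2 ≠ 0 → co M w p = co M w q

include h hm in
/-- `v ∉ O₂(C_G(w))` -/
theorem not_mem_o2 {a : Pt k m} (ha : a.2 ≠ 0) {v : G} (hv : IsPair M (a.1, 0) a v)
    (hvQ : v ∉ o2 (CC (S : Subgroup G))) {w : G} (hw : Const M w) : v ∉ o2 (centralizer ({w} : Set G)) := by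
  have hz : ((a.1, 0) : Pt k m) ≠ a := fun h0 => ha (congrArg Prod.snd h0).symm
  obtain ⟨g, hg, hf, hX, -⟩ := h.exists_near hv.1 hvQ
  have hFQ : MulAut.conj g • (zl (S : Subgroup G) P ⊓ o2 (CC (S : Subgroup G))) ≤ o2 (CC (S : Subgroup G)) := by
    intro y hy
    obtain ⟨x, hx, rfl⟩ := NOne.Frame.mem_conj'.1 hy
    exact (mem_normalizer_iff.1 (le_normalizer_o2 _ hg) x).1 hx.2
  have hwD := (qsit h M hm).const_mem_D (z := (a.1, 0)) (a := a) rfl rfl ha hv hf.near hFQ hf.ne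
    (fun p q h1 h2 h3 h4 u hu => pair_mem h M hm h1 h2 h3 h4 hu) hw.1 hw.2.1 hw.2.2
  refine not_mem_of_frame hf.fr hX (o2_isPGroup _) (o2_isPGroup _) ?_
  refine le_trans ?_ (le_normalizer_o2 _)
  have h1 : NOne.Frame.X (V1 (zl (S : Subgroup G) P) (o2 (CC (S : Subgroup G))) v) g ≤
      zl (S : Subgroup G) P ⊔ MulAut.conj g • zl (S : Subgroup G) P := by
    refine sup_le_sup (V1_le hv.1) ?_
    intro y hy
    obtain ⟨x, hx, rfl⟩ := NOne.Frame.mem_conj'.1 hy
    exact conj_mem_smul (V1_le hv.1 hx)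
  intro x hx
  exact mem_centralizer_singleton_iff.2 (hf.cent x (h1 hx) w hwD)

end Cfsg.Agent.Omega.NO1.Sym

end

section


/-!
# N1, sums of even-subset modules: one block (project OMEGA, N1, `SymAll`)

`false_of_half` : there are no `k ≥ 2` blocks.  Input: `O₂(C_G(w)) ≤ S₀` for subgroups `Q ≤ S₀` of index 2 of `S` and
involutions `w ∈ Z(S₀)` (`HalfQ.lean`).
-/

set_option autoImplicit false

namespace Cfsg.Agent.Omega.NO1.Sym

open Subgroup Cfsg Cfsg.Agent.ZN Cfsg.Agent.Omega.FFThm Cfsg.Agent.Omega.Half Cfsg.Agent.Omega.NO1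
open Cfsg.Agent.Omega.NoFF.LinesPlug (CC)
open scoped Pointwise

universe u

/-- `O₂(C_G(w)) ≤ S₀` -/
def HalfStmt (G : Type u) [Group G] : Prop :=
  ∀ (S : Sylow 2 G) (So : Subgroup G), So ≤ (S : Subgroup G) → Nat.card (S : Subgroup G) = 2 * Nat.card So →
    o2 (CC (S : Subgroup G)) ≤ So → ∀ w ∈ So, w ^ 2 = 1 → w ≠ 1 → (∀ s ∈ So, s * w = w * s) →
      o2 (centralizer ({w} : Set G)) ≤ So

variable {G : Type u} [Group G]

/-- A proper subgroup of a 2-group lies in a subgroup of index 2. -/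
theorem exists_index_two [Finite G] {S A : Subgroup G} (hS : IsPGroup 2 S) (hA : A ≤ S) (hne : ¬ S ≤ A) :
    ∃ So : Subgroup G, A ≤ So ∧ So ≤ S ∧ Nat.card S = 2 * Nat.card So := by
  have : Fact (Nat.Prime 2) := ⟨Nat.prime_two⟩
  obtain ⟨n, hn⟩ := IsPGroup.iff_card.1 hS
  obtain ⟨a, ha⟩ := IsPGroup.iff_card.1 (hS.to_le hA)
  have hlt : a < n := by
    have h1 : Nat.card A ∣ Nat.card S := card_dvd_of_le hA
    rw [hn, ha] at h1
    have h2 := (Nat.pow_dvd_pow_iff_le_right' (b := 0)).1 h1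
    rcases Nat.lt_or_ge a n with h3 | h3
    · exact h3
    · exfalso
      have h4 : a = n := le_antisymm h2 h3
      apply hne
      have h5 : A = S := eq_of_le_of_card_ge hA (by rw [hn, ha, h4])
      rw [h5]
  have hA' : Nat.card (A.subgroupOf S) = 2 ^ a := by
    rw [Nat.card_congr (subgroupOfEquivOfLe hA).toEquiv, ha]
  obtain ⟨K, hK, hAK⟩ := Sylow.exists_subgroup_card_pow_prime_le (G := S) 2 (n := a) (m := n - 1)
    (by rw [hn]; exact pow_dvd_pow 2 (by omega)) (A.subgroupOf S) hA' (by omega)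
  refine ⟨K.map S.subtype, ?_, map_subtype_le K, ?_⟩
  · intro x hx
    exact ⟨⟨x, hA hx⟩, hAK hx, rfl⟩
  · rw [card_map_of_injective S.subtype_injective, hK, hn, ← pow_succ']
    congr 1
    omega

/-- Two elements outside a subgroup of index 2. -/
theorem inv_mul_mem [Finite G] {S So : Subgroup G} (hSo : So ≤ S) (hc : Nat.card S = 2 * Nat.card So) {a b : G}
    (ha : a ∈ S) (hb : b ∈ S) (ha' : a ∉ So) (hb' : b ∉ So) : a⁻¹ * b ∈ So := by
  have h1 : (So.subgroupOf S).index = 2 := by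
    have h2 := card_mul_index (So.subgroupOf S)
    rw [Nat.card_congr (subgroupOfEquivOfLe hSo).toEquiv, hc, mul_comm] at h2
    exact Nat.eq_of_mul_eq_mul_right Nat.card_pos h2
  have h2 := mul_mem_iff_of_index_two h1 (a := (⟨a, ha⟩ : S)⁻¹) (b := ⟨b, hb⟩)
  rw [inv_mem_iff] at h2
  have h3 := h2.mpr (iff_of_false (fun h => ha' (mem_subgroupOf.mp h))
    (fun h => hb' (mem_subgroupOf.mp h)))
  exact mem_subgroupOf.mp h3

variable [Finite G] {S : Sylow 2 G} {P : Subgroup G} (h : Cfg S P) {k m : ℕ}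
variable (M : SymK (S : Subgroup G) P (zl (S : Subgroup G) P) ⊥ k m) (hm : 2 ≤ m)

include h M hm in
/-- There are no `k ≥ 2` blocks. -/
theorem false_of_half (hH : HalfStmt G) (hk : 2 ≤ k) : False := by
  classical
  have hm1 : 1 ≤ m := by omega
  have hA := amb h
  have qs := qsit h M hm
  have h5 := five_le hm
  obtain ⟨a, ha, v, hv, hvQ⟩ := exists_v h M hm
  have hSP := h.S_le
  -- the stabiliser of the block of `a`
  let S1 : Subgroup G :=
    { carrier := {s | s ∈ (S : Subgroup G) ∧ ∀ p : Pt k m, (rp M s p).1 = a.1 ↔ p.1 = a.1}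
      mul_mem' := by
        rintro s t ⟨hs, h1⟩ ⟨ht, h2⟩
        refine ⟨mul_mem hs ht, fun p => ?_⟩
        rw [rp_mul M hm1 hA (hSP hs) (hSP ht), Equiv.Perm.mul_apply, h1, h2]
      one_mem' := ⟨one_mem _, fun p => by rw [rp_one M hm1 hA, Equiv.Perm.one_apply]⟩
      inv_mem' := by
        rintro s ⟨hs, h1⟩
        refine ⟨inv_mem hs, fun p => ?_⟩
        rw [rp_inv M hm1 hA (hSP hs), ← h1, apply_inv] }
  have mem_S1 : ∀ s, s ∈ S1 ↔ s ∈ (S : Subgroup G) ∧ (rp M s a).1 = a.1 := by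
    intro s
    constructor
    · rintro ⟨h1, h2⟩
      exact ⟨h1, (h2 a).2 rfl⟩
    · rintro ⟨h1, h2⟩
      refine ⟨h1, fun p => ?_⟩
      have h3 := rp_fst_eq M (hSP h1) (p := p) (q := a)
      rw [h2] at h3
      exact h3
  have hS1 : S1 ≤ (S : Subgroup G) := fun s hs => hs.1
  have hne : ¬ (S : Subgroup G) ≤ S1 := by
    intro hle
    obtain ⟨j, hj⟩ : ∃ j : Fin k, j ≠ a.1 := by
      have hc : ({a.1} : Finset (Fin k)).card < (Finset.univ : Finset (Fin k)).card := by
        rw [Finset.card_univ, Fintype.card_fin, Finset.card_singleton]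
        omega
      obtain ⟨x, -, hx⟩ := Finset.exists_mem_notMem_of_card_lt_card hc
      rw [Finset.mem_singleton] at hx
      exact ⟨x, hx⟩
    obtain ⟨t, ht, h1⟩ := rp_trans M hm1 hA a.1 j
    have h2 := ((mem_S1 t).1 (hle ht)).2
    exact hj ((h1 a.2).symm.trans h2)
  obtain ⟨So, h1o, hoS, hcard⟩ := exists_index_two S.isPGroup' hS1 hne
  -- the blocks of the orbit of `So`
  let J : Set (Fin k) := {j | ∃ s ∈ So, (rp M s a).1 = j}
  have haJ : a.1 ∈ J := ⟨1, one_mem _, by rw [rp_one M hm1 hA, Equiv.Perm.one_apply]⟩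
  have hJ : ∀ s ∈ So, ∀ p : Pt k m, (rp M s p).1 ∈ J ↔ p.1 ∈ J := by
    have key : ∀ s ∈ So, ∀ p : Pt k m, p.1 ∈ J → (rp M s p).1 ∈ J := by
      rintro s hs p ⟨t, ht, h1⟩
      refine ⟨s * t, mul_mem hs ht, ?_⟩
      rw [rp_mul M hm1 hA (hSP (hoS hs)) (hSP (hoS ht)), Equiv.Perm.mul_apply]
      exact (rp_fst_eq M (hSP (hoS hs))).2 h1
    intro s hs p
    refine ⟨fun h1 => ?_, key s hs p⟩
    have h2 := key s⁻¹ (inv_mem hs) _ h1
    rwa [rp_inv M hm1 hA (hSP (hoS hs)), inv_apply] at h2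
  obtain ⟨j0, hj0⟩ : ∃ j, j ∉ J := by
    by_contra hcon
    push Not at hcon
    apply hne
    obtain ⟨t, ht, htS⟩ : ∃ t ∈ (S : Subgroup G), t ∉ So := by
      by_contra hc
      push Not at hc
      have h1 : (S : Subgroup G) = So := le_antisymm hc hoS
      have h2 : Nat.card So = 2 * Nat.card So := by rw [← hcard, h1]
      have h3 : 0 < Nat.card So := Nat.card_pos
      omega
    obtain ⟨s, hs, h1⟩ := hcon (rp M t a).1
    exfalso
    apply htS
    have h2 : s⁻¹ * t ∈ S1 := by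
      refine (mem_S1 _).2 ⟨mul_mem (inv_mem (hoS hs)) ht, ?_⟩
      rw [rp_mul M hm1 hA (hSP (inv_mem (hoS hs))) (hSP ht), Equiv.Perm.mul_apply]
      have h3 : (rp M s⁻¹ (rp M t a)).1 = (rp M s⁻¹ (rp M s a)).1 :=
        (rp_fst_eq M (hSP (inv_mem (hoS hs)))).2 h1.symm
      rw [h3, rp_inv M hm1 hA (hSP (hoS hs)), inv_apply]
    have h3 := mul_mem hs (h1o h2)
    rwa [mul_inv_cancel_left] at h3
  -- the vector `w`
  obtain ⟨w, hwV, hw⟩ := exists_co M (fun p => if p.1 ∈ J then 0 else if p.2 = 0 then 0 else 1) (by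
    intro i
    by_cases hi : i ∈ J
    · simp only [if_pos hi, Finset.sum_const_zero]
    · simp only [if_neg hi]
      rw [← Finset.add_sum_erase _ _ (Finset.mem_univ (0 : Fin (2 ^ m + 1))), if_pos rfl, zero_add,
        Finset.sum_congr rfl fun x hx => if_neg (Finset.ne_of_mem_erase hx), Finset.sum_const,
        Finset.card_erase_of_mem (Finset.mem_univ _), Finset.card_univ, Fintype.card_fin]
      have h8 : 2 ^ m + 1 - 1 = 2 * 2 ^ (m - 1) := by
        rw [Nat.add_sub_cancel, ← pow_succ']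
        congr 1
        omega
      rw [h8, mul_nsmul, two_nsmul, CharTwo.add_self_eq_zero, nsmul_zero])
  have hconst : Const M w := by
    refine ⟨hwV, fun p hp => ?_, fun p q h1 h2 h3 => ?_⟩
    · rw [hw]
      simp only [hp, if_true, ite_self]
    · rw [hw, hw, h1, if_neg h2, if_neg h3]
  have hw1 : w ≠ 1 := by
    intro h1
    have h2 := hw (j0, Fin.last (2 ^ m))
    rw [h1, co_one, if_neg hj0, if_neg] at h2
    · exact zero_ne_one h2
    · intro h0
      have h6 : (Fin.last (2 ^ m) : Fin (2 ^ m + 1)).val = 2 ^ m := Fin.val_last _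
      have h7 := congrArg Fin.val h0
      rw [Fin.val_zero] at h7
      have h8 : (Fin.last (2 ^ m) : Fin (2 ^ m + 1)).val = 0 := h7
      omega
  have hw2 : w ^ 2 = 1 := hA.sq w hwV
  -- elements of `P` preserving the coordinates of `w` centralise `w`
  have hcent : ∀ g ∈ P, (∀ p : Pt k m, co M w (rp M g p) = co M w p) → g * w = w * g := by
    intro g hg h1
    have h2 : g * w * g⁻¹ = w := by
      refine ext_co M (hA.conj_mem hg hwV) hwV fun p => ?_
      obtain ⟨r, rfl⟩ := (rp M g).surjective p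
      rw [co_rp M hg hwV, h1]
    exact mul_inv_eq_iff_eq_mul.1 h2
  have hSow : ∀ s ∈ So, s * w = w * s := by
    intro s hs
    refine hcent s (hSP (hoS hs)) fun p => ?_
    have h2 := hJ s hs p
    have h3 : (rp M s p).2 = 0 ↔ p.2 = 0 := (T_le_H0 M hm1 hA (hoS hs)).2 p
    rw [hw, hw]
    simp only [h2, h3]
  have hwSo : w ∈ So := by
    refine h1o ((mem_S1 w).2 ⟨hA.VT hwV, ?_⟩)
    have h2 : rp M w = 1 := (rp_eq_one_iff M hm1 hA (hSP (hA.VT hwV))).2 fun u hu => hA.comm w hwV u hu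
    rw [h2, Equiv.Perm.one_apply]
  have hQSo : o2 (CC (S : Subgroup G)) ≤ So := fun q hq => h1o ((mem_S1 q).2 ⟨qs.le hq, qs.fst_eq hq a⟩)
  have hR := hH S So hoS hcard hQSo w hwSo hw2 hw1 hSow
  set R := o2 (centralizer ({w} : Set G)) with hRdef
  have hvR : v ∉ R := not_mem_o2 h M hm ha hv hvQ hconst
  have hnR : ∀ g ∈ centralizer ({w} : Set G), ∀ x ∈ R, g * x * g⁻¹ ∈ R := fun g hg x hx =>
    (mem_normalizer_iff.1 (le_normalizer_o2 _ hg) x).1 hx
  have hVc : zl (S : Subgroup G) P ≤ centralizer ({w} : Set G) := fun x hx =>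
    mem_centralizer_singleton_iff.2 (hA.comm x hx w hwV)
  -- a pair in a block of `J` is not in `R`
  have hpair : ∀ p q : Pt k m, p.1 = q.1 → p.1 ∈ J → p ≠ q → ∀ u, IsPair M p q u → u ∉ R := by
    -- swaps in a block of `J` centralise `w`
    have hsw : ∀ p q : Pt k m, p.1 = q.1 → p.1 ∈ J → ∃ g ∈ P, g ∈ centralizer ({w} : Set G) ∧
        rp M g = Equiv.swap p q := by
      intro p q h1 h2
      obtain ⟨g, hg, h3⟩ := exists_swap M hm1 hA h1
      refine ⟨g, hg, mem_centralizer_singleton_iff.2 (hcent g hg fun r => ?_), h3⟩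
      rw [h3]
      by_cases hr1 : r = p
      · rw [hr1, Equiv.swap_apply_left, hw, hw, if_pos h2, if_pos (h1 ▸ h2)]
      · by_cases hr2 : r = q
        · rw [hr2, Equiv.swap_apply_right, hw, hw, if_pos h2, if_pos (h1 ▸ h2)]
        · rw [Equiv.swap_apply_of_ne_of_ne hr1 hr2]
    -- first in the block of `a`
    have h0 : ∀ p q : Pt k m, p.1 = a.1 → q.1 = a.1 → p ≠ q → ∀ u, IsPair M p q u → u ∉ R := by
      intro p q hp hq hne' u hu huR
      apply hvR
      have hz : ((a.1, 0) : Pt k m) ≠ a := fun h0 => ha (congrArg Prod.snd h0).symm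
      -- move `p` to `(a.1, 0)`
      obtain ⟨g1, hg1, hg1c, e1⟩ := hsw p (a.1, 0) hp (hp ▸ haJ)
      have k1 := hu.conj hA hg1
      rw [e1, Equiv.swap_apply_left] at k1
      set q' := Equiv.swap p ((a.1, 0) : Pt k m) q with hq'
      have hq'1 : q'.1 = a.1 := by
        rw [hq']
        by_cases h6 : q = (a.1, 0)
        · rw [h6, Equiv.swap_apply_right, hp]
        · rw [Equiv.swap_apply_of_ne_of_ne (Ne.symm hne') h6, hq]
      have hq'0 : q' ≠ (a.1, 0) := by
        intro h6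
        have h7 : q' = Equiv.swap p ((a.1, 0) : Pt k m) p := by rw [h6, Equiv.swap_apply_left]
        exact hne' ((Equiv.swap p ((a.1, 0) : Pt k m)).injective h7).symm
      obtain ⟨g2, hg2, hg2c, e2⟩ := hsw q' a hq'1 (hq'1 ▸ haJ)
      have k2 := k1.conj hA hg2
      rw [e2, Equiv.swap_apply_left, Equiv.swap_apply_of_ne_of_ne (Ne.symm hq'0) hz] at k2
      rw [hv.unique k2]
      exact hnR g2 hg2c _ (hnR g1 hg1c _ huR)
    rintro p q h1 ⟨s, hs, h2⟩ hne' u hu huR
    have hsP := hSP (hoS hs)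
    have hsc : s⁻¹ ∈ centralizer ({w} : Set G) := inv_mem (mem_centralizer_singleton_iff.2 (hSow s hs))
    have k1 := hu.conj hA (inv_mem hsP)
    have e1 : (rp M s⁻¹ p).1 = a.1 := by
      have h3 : (rp M s⁻¹ p).1 = (rp M s⁻¹ (rp M s a)).1 := (rp_fst_eq M (inv_mem hsP)).2 h2.symm
      rw [h3, rp_inv M hm1 hA hsP, inv_apply]
    have e2 : (rp M s⁻¹ q).1 = a.1 := by
      rw [← e1]
      exact ((rp_fst_eq M (inv_mem hsP)).2 h1).symm
    exact h0 _ _ e1 e2 (fun h3 => hne' ((rp M s⁻¹).injective h3)) _ k1 (hnR _ hsc _ huR)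
  -- `R` contains no vector with support in `J`
  have hVJ : ∀ x ∈ zl (S : Subgroup G) P, (∀ p : Pt k m, p.1 ∉ J → co M x p = 0) → x ∈ R → x = 1 := by
    intro x hx hxJ hxR
    by_contra hx1
    obtain ⟨p, hp⟩ : ∃ p, co M x p ≠ 0 := by
      by_contra hcon
      push Not at hcon
      exact hx1 (eq_one_of_co M hx hcon)
    have hpJ : p.1 ∈ J := by
      by_contra hc
      exact hp (hxJ p hc)
    obtain ⟨y, hy⟩ : ∃ y, co M x (p.1, y) = 0 := by
      by_contra hcon
      push Not at hcon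
      have h6 := sum_co M hx p.1
      rw [Finset.sum_congr rfl fun y _ => (ne_zero_iff _).1 (hcon y), Finset.sum_const, Finset.card_univ,
        Fintype.card_fin, nsmul_eq_mul, mul_one] at h6
      have h8 : 2 ^ m + 1 = 2 * 2 ^ (m - 1) + 1 := by
        rw [← pow_succ']
        congr 2
        omega
      rw [h8, Nat.cast_add, Nat.cast_mul, Nat.cast_one] at h6
      have h9 : ((2 : ℕ) : ZMod 2) = 0 := by decide
      rw [h9, zero_mul, zero_add] at h6
      exact one_ne_zero h6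
    set q : Pt k m := (p.1, y) with hq
    have hpq : p ≠ q := fun h6 => hp (by rw [h6]; exact hy)
    obtain ⟨g, hg, h7⟩ := exists_swap M hm1 hA (p := p) (q := q) rfl
    have hgc : g ∈ centralizer ({w} : Set G) := by
      refine mem_centralizer_singleton_iff.2 (hcent g hg fun r => ?_)
      rw [h7]
      by_cases hr1 : r = p
      · rw [hr1, Equiv.swap_apply_left, hw, hw, if_pos hpJ, if_pos hpJ]
      · by_cases hr2 : r = q
        · rw [hr2, Equiv.swap_apply_right, hw, hw, if_pos hpJ, if_pos hpJ]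
        · rw [Equiv.swap_apply_of_ne_of_ne hr1 hr2]
    have hx' : g * x * g⁻¹ ∈ zl (S : Subgroup G) P := hA.conj_mem hg hx
    have hpr : IsPair M p q (g * x * g⁻¹ * x⁻¹) := by
      refine ⟨mul_mem hx' (inv_mem hx), fun r => ?_⟩
      rw [co_mul M hx' (inv_mem hx), co_inv M hx]
      have h8 : co M (g * x * g⁻¹) r = co M x (Equiv.swap p q r) := by
        have := co_rp M hg hx (Equiv.swap p q r)
        rwa [h7, Equiv.swap_apply_self] at this
      rw [h8]
      by_cases hr1 : r = p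
      · rw [hr1, Equiv.swap_apply_left, if_pos (Or.inl rfl), (ne_zero_iff _).1 hp]
        rw [show co M x q = 0 from hy, zero_add]
      · by_cases hr2 : r = q
        · rw [hr2, Equiv.swap_apply_right, if_pos (Or.inr rfl), (ne_zero_iff _).1 hp,
            show co M x q = 0 from hy, add_zero]
        · rw [Equiv.swap_apply_of_ne_of_ne hr1 hr2, if_neg (not_or.2 ⟨hr1, hr2⟩), CharTwo.add_self_eq_zero]
    exact hpair p q rfl hpJ hpq _ hpr (mul_mem (hnR g hgc x hxR) (inv_mem hxR))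
  -- the end
  have hvV := hv.1
  have hvJ : ∀ p : Pt k m, p.1 ∉ J → co M v p = 0 := by
    intro p hp
    rw [hv.2, if_neg]
    rintro (rfl | rfl)
    · exact hp haJ
    · exact hp haJ
  apply hvR
  refine MinSimple.Basic.char2_centralizer h.ctx.char2 hw2 hw1 ⟨hVc hvV, mem_centralizer_iff.2 fun r hr => ?_⟩
  have hrSo : r ∈ So := hR hr
  have hrP : r ∈ P := hSP (hoS hrSo)
  have hr' : r * v * r⁻¹ ∈ zl (S : Subgroup G) P := hA.conj_mem hrP hvV
  have h6 : r * v * r⁻¹ * v⁻¹ = 1 := by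
    refine hVJ _ (mul_mem hr' (inv_mem hvV)) (fun p hp => ?_) ?_
    · rw [co_mul M hr' (inv_mem hvV), co_inv M hvV, hvJ p hp, add_zero]
      obtain ⟨s, rfl⟩ := (rp M r).surjective p
      rw [co_rp M hrP hvV]
      exact hvJ s fun hs => hp ((hJ r hrSo s).2 hs)
    · have e : r * v * r⁻¹ * v⁻¹ = r * (v * r⁻¹ * v⁻¹) := by group
      rw [e]
      exact mul_mem hr (hnR v (hVc hvV) _ (inv_mem hr))
  have h7 : r * v * r⁻¹ = v := mul_inv_eq_one.1 h6
  exact mul_inv_eq_iff_eq_mul.1 h7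

end Cfsg.Agent.Omega.NO1.Sym

end

end

-- merged: Cfsg.Agent.Mrg.Omega.NO1.Sym.EndOne
section

section


/-!
# `SymAll`, one block, degree 5: the type `Minus2` (project OMEGA, N1)

`minus2`: `V_P` the even-subset module of `S₅`, `C_V(O²(P)) = 1`; `z i` is the complement of the point `i`.
-/

set_option autoImplicit false

namespace Cfsg.Agent.Omega.NO1.Sym.EndOne

open Subgroup Cfsg Cfsg.Agent.ZN Cfsg.Agent.Omega.FFThm Cfsg.Agent.Omega.S5.Def
open Cfsg.Agent.Omega.S5.Of (lab evenSet fix0)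

universe u

variable {G : Type u} [Group G] [Finite G]

theorem vec_eq (x : Fin 5 → ZMod 2) : x = x 0 • Pi.single 0 1 + x 1 • Pi.single 1 1 + x 2 • Pi.single 2 1 +
    x 3 • Pi.single 3 1 + x 4 • Pi.single 4 1 := by
  have h1 : x = ∑ i, x i • (Pi.single i 1 : Fin 5 → ZMod 2) := by
    funext j
    simp [Finset.sum_apply, Pi.single_apply]
  conv_lhs => rw [h1]
  rw [Fin.sum_univ_five]

omit [Finite G] in
theorem gen_eq {V P : Subgroup G} {ε : (Fin 5 → ZMod 2) → G} (h : EvenSet 5 V P ε) :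
    closure (Set.range fun i => ε (Pi.single i 1)) = V := by
  apply le_antisymm
  · rw [closure_le]
    rintro _ ⟨i, rfl⟩
    exact h.mem _
  · intro v hv
    obtain ⟨x, rfl⟩ := h.surj v hv
    have key : ∀ (a : ZMod 2) (i : Fin 5), ε (a • Pi.single i 1) ∈
        closure (Set.range fun i => ε (Pi.single i 1)) := by
      intro a i
      have ha : a = 0 ∨ a = 1 := by revert a; decide
      rcases ha with rfl | rfl
      · rw [zero_smul, h.zero]; exact one_mem _
      · rw [one_smul]; exact subset_closure ⟨i, rfl⟩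
    rw [vec_eq x, h.add, h.add, h.add, h.add]
    exact mul_mem (mul_mem (mul_mem (mul_mem (key _ _) (key _ _)) (key _ _)) (key _ _)) (key _ _)

theorem of_evenSet {S : Sylow 2 G} {P : Subgroup G} (h : Cfg S P) {ε : (Fin 5 → ZMod 2) → G}
    (E : EvenSet 5 (zl (S : Subgroup G) P) P ε) (h0 : S5.Syl.Fix0 ε (S : Subgroup G)) :
    Minus2 (S : Subgroup G) P fun i => ε (Pi.single i 1) where
  inj i j hij := E.single_inj (by norm_num) hij
  ne_one i := E.single_ne_one (by norm_num) i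
  sq i := E.sq _
  comm i j := E.comm _ _
  prod := by
    rw [← E.add, ← E.add, ← E.add, ← E.add]
    refine (E.ker _).2 (Or.inr ?_)
    decide
  gen := gen_eq E
  Z := by
    have hfix : ∀ v ∈ zc (S : Subgroup G), v = 1 ∨ v = ε (Pi.single 0 1) := by
      intro v hv
      refine S5.Syl.fixed (m := 2) (by norm_num) E h.S_le (MinSimple.Basic.not_dvd_relIndex S h.S_le) h0
        (h.Z_le_V hv) fun s hs => ?_
      have h1 := MinSimple.VModule.le_centralizer_zc (S : Subgroup G) hs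
      exact ((mem_centralizer_iff.1 h1) v hv).symm
    have hz : ε (Pi.single 0 1) ∈ zc (S : Subgroup G) := by
      by_contra hcon
      refine MinSimple.Basic.zc_ne_bot S.isPGroup' (h.ctx.sylow_ne_bot S) ?_
      rw [eq_bot_iff]
      intro v hv
      rcases hfix v hv with h1 | h1
      · exact mem_bot.2 h1
      · exact absurd (h1 ▸ hv) hcon
    apply le_antisymm
    · intro v hv
      rcases hfix v hv with h1 | h1
      · rw [h1]
        exact one_mem _
      · rw [h1]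
        exact mem_zpowers _
    · rw [zpowers_le]
      exact hz
  perm m hm := by
    obtain ⟨σ, hσ⟩ := E.perm m hm
    exact ⟨σ, fun i => hσ.single i⟩
  alt σ _ := by
    obtain ⟨m, hm, hσ⟩ := E.full σ
    exact ⟨m, hm, fun i => hσ.single i⟩

/-- **`SymAll`, `k = 1`, `m = 2`.** -/
theorem minus2 {S : Sylow 2 G} {P : Subgroup G} (h : Cfg S P)
    (M : SymK (S : Subgroup G) P (zl (S : Subgroup G) P) (FrameFF.cv (S : Subgroup G) P) 1 2) :
    ∃ z : Fin 5 → G, Minus2 (S : Subgroup G) P z := by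
  have hD : FrameFF.cv (S : Subgroup G) P = ⊥ := h.one.cen
  have hH : P ≤ normalizer (zl (S : Subgroup G) P : Set G) := Cfg.P_norm_V S P
  exact ⟨_, of_evenSet h (evenSet M hD (by norm_num) hH) (fix0 M hD (by norm_num) hH h.S_le)⟩

end Cfsg.Agent.Omega.NO1.Sym.EndOne

end

section


/-!
# `SymAll`: `V_P` a sum of even-subset modules (project OMEGA, N1, text #14697)

`symAll : NO1.SymAll`: then `k = 1`, `m = 2` and `V_P = O₄⁻(2)`.
-/

set_option autoImplicit false

namespace Cfsg.Agent.Omega.NO1.Sym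

open Subgroup Cfsg Cfsg.Agent.ZN Cfsg.Agent.Omega.MinPar Cfsg.Agent.Omega.Frame
open Cfsg.Agent.Omega.NoFF.LinesPlug (CC)
open Cfsg.Agent.Omega.FFThm (SymK)
open Cfsg.Agent.Omega.FrameFF (cv)

universe u

/-- **`SymAll`** (text #14697). -/
theorem symAll : NO1.SymAll.{u} := by
  intro G _ _ S P h k m hk hm M
  have e : cv (S : Subgroup G) P = ⊥ := h.one.cen
  have M' : SymK (S : Subgroup G) P (zl (S : Subgroup G) P) ⊥ k m := e ▸ M
  have hH : HalfStmt G := fun T To hT hc hQ w hw hw2 hw1 hcen =>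
    HalfQ.o2_le_of_index_two T hT hc hQ hw hw2 hw1 hcen
  have hm2 : m = 2 := m_eq_two h M' hm
  subst hm2
  rcases Nat.lt_or_ge 1 k with hk1 | hk1
  · exact (false_of_half h M' hm hH hk1).elim
  · have hk2 : k = 1 := by omega
    subst hk2
    obtain ⟨z, hz⟩ := EndOne.minus2 h M
    exact Ty.minus2 z hz

end Cfsg.Agent.Omega.NO1.Sym

end

end
end
end
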